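import Groth.Agent.KInj.Restrict
import Mathlib

/-!
# Restrictions of injective sheaves are injective presheaves
-/

set_option autoImplicit false
set_option backward.isDefEq.respectTransparency false

universe u

open CategoryTheory CategoryTheory.Limits Opposite

namespace Groth.Agent.BiextExtLib

variable {C : Type (u + 1)} [Category.{u} C] {J : GrothendieckTopology C}

theorem hasComponentTerminals_forget (U : C) :
    Groth.Agent.KInj.HasComponentTerminals (Over.forget U).op := by
  intro V
  refine ⟨ULift.{u + 1} (V.unop ⟶ U), fun g => CostructuredArrow.mk (Y := op (Over.mk g.down)) (𝟙 V), fun x => ?_⟩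
  let f : V.unop ⟶ x.left.unop.left := x.hom.unop
  let k : Over.mk (f ≫ x.left.unop.hom) ⟶ x.left.unop := Over.homMk f
  refine ⟨⟨⟨f ≫ x.left.unop.hom⟩, CostructuredArrow.homMk k.op ?_⟩, trivial, ?_⟩
  · simp [k, f]
  · rintro ⟨⟨g⟩, h⟩ -
    have h1 : x.hom = h.left.unop.left.op := by
      simpa using (CostructuredArrow.w h).symm
    have h2 : g = f ≫ x.left.unop.hom := by
      have := Over.w h.left.unop
      simp only [f, h1]
      exact this.symm
    subst h2
    refine Sigma.ext rfl (heq_of_eq ?_)
    apply CostructuredArrow.hom_ext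
    apply Quiver.Hom.unop_inj
    apply Over.OverMorphism.ext
    simp [k, f, h1]

theorem injective_restrict [HasSheafify J AddCommGrpCat.{u + 1}] (U : C) (I : Sheaf J AddCommGrpCat.{u + 1})
    [Injective I] : Injective ((Over.forget U).op ⋙ I.obj) := by
  haveI := Groth.Agent.KInj.preservesMonomorphisms_lan (A := AddCommGrpCat.{u + 1}) (Over.forget U).op
    (hasComponentTerminals_forget U)
  haveI : ((Over.forget U).op.lan ⋙ presheafToSheaf J AddCommGrpCat.{u + 1}).PreservesMonomorphisms :=
    ⟨fun f _ => inferInstanceAs (Mono ((presheafToSheaf J _).map ((Over.forget U).op.lan.map f)))⟩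
  exact Injective.injective_of_adjoint
    (((Over.forget U).op.lanAdjunction AddCommGrpCat.{u + 1}).comp (sheafificationAdjunction J AddCommGrpCat.{u + 1})) I

end Groth.Agent.BiextExtLib
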