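import Groth.Agent.BiextExtLib.SectHom
import Groth.Agent.BiextExtLib.InjPre

/-!
# Local splittings of a biextension from the vanishing of homomorphisms into the Ext sheaf
-/

set_option autoImplicit false
set_option backward.isDefEq.respectTransparency false

universe u

open CategoryTheory Opposite

noncomputable section

namespace Groth.Agent.BiextExtLib

variable {C : Type (u + 1)} [Category.{u} C] {J : GrothendieckTopology C}
  {P Q G H : Sheaf J AddCommGrpCat.{u + 1}}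

variable (Q G H) in
/-- The beginning of an injective resolution of `G`, and a presentation of `H` as the first cohomology sheaf of its
internal Hom out of `Q`. -/
structure Obstruction where
  /-- first term -/
  I0 : Sheaf J AddCommGrpCat.{u + 1}
  /-- second term -/
  I1 : Sheaf J AddCommGrpCat.{u + 1}
  inj : Injective I0
  /-- augmentation -/
  ι : G ⟶ I0
  /-- differential -/
  d0 : I0 ⟶ I1
  ι_injective : ∀ T : C, Function.Injective (ι.hom.app (op T))
  d0_ι : ∀ (T : C) (g : G.obj.obj (op T)), d0.hom.app (op T) (ι.hom.app (op T) g) = 0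
  exists_of_d0 : ∀ (T : C) (m : I0.obj.obj (op T)), d0.hom.app (op T) m = 0 → ∃ g, ι.hom.app (op T) g = m
  /-- cycles -/
  Z : Sheaf J AddCommGrpCat.{u + 1}
  /-- inclusion of cycles -/
  iZ : Z ⟶ HomSh.homSh J Q I1
  /-- boundaries -/
  toZ : HomSh.homSh J Q I0 ⟶ Z
  toZ_iZ : toZ ≫ iZ = HomSh.homShMap J (𝟙 Q) d0
  /-- projection -/
  π : Z ⟶ H
  toZ_π : toZ ≫ π = 0
  iZ_injective : ∀ T : C, Function.Injective (iZ.hom.app (op T))
  exists_lift : ∀ (T : C) (ψ : Q.over T ⟶ I1.over T),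
    (∀ ⦃T' : C⦄ (h : T' ⟶ T) (q : Q.obj.obj (op T')), ∃ R ∈ J T', ∀ ⦃T'' : C⦄ (g : T'' ⟶ T'), R g →
      ∃ m, d0.hom.app (op T'') m = I1.obj.map g.op (appH ψ h q)) → ∃ z, iZ.hom.app (op T) z = ψ
  exact : ∀ (T : C) (z : Z.obj.obj (op T)), π.hom.app (op T) z = 0 → ∃ R ∈ J T, ∀ ⦃T' : C⦄ (f : T' ⟶ T), R f →
    ∃ v, toZ.hom.app (op T') v = Z.obj.map f.op z

variable (B : Biext J P Q G)

/-- A linear splitting of a biextension over a section of `P`. -/
structure Split {T : C} (p : P.obj.obj (op T)) where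
  /-- the section -/
  s : ∀ ⦃T' : C⦄ (_h : T' ⟶ T), Q.obj.obj (op T') → B.E.obj.obj (op T')
  πP_s : ∀ ⦃T' : C⦄ (h : T' ⟶ T) (q), B.πP T' (s h q) = P.obj.map h.op p
  πQ_s : ∀ ⦃T' : C⦄ (h : T' ⟶ T) (q), B.πQ T' (s h q) = q
  s_map : ∀ ⦃T' T'' : C⦄ (g : T'' ⟶ T') (h : T' ⟶ T) (q : Q.obj.obj (op T')),
    B.E.obj.map g.op (s h q) = s (g ≫ h) (Q.obj.map g.op q)
  s_add : ∀ ⦃T' : C⦄ (h : T' ⟶ T) (q q' : Q.obj.obj (op T')),
    s h (q + q') = B.add₂ T' (s h q) (s h q') ((πP_s h q).trans (πP_s h q').symm)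

variable {B} (O : Obstruction Q G H)

variable (B) in
/-- An extension of the augmentation to the fibre of `B` over a section of `P`. -/
structure Datum {T : C} (p : P.obj.obj (op T)) where
  /-- the map -/
  u : ∀ ⦃T' : C⦄ (h : T' ⟶ T) (x : B.E.obj.obj (op T')), B.πP T' x = P.obj.map h.op p → O.I0.obj.obj (op T')
  u_map : ∀ ⦃T' T'' : C⦄ (g : T'' ⟶ T') (h : T' ⟶ T) (x : B.E.obj.obj (op T')) (hx : B.πP T' x = P.obj.map h.op p)
    (hx' : B.πP T'' (B.E.obj.map g.op x) = P.obj.map (g ≫ h).op p),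
    u (g ≫ h) (B.E.obj.map g.op x) hx' = O.I0.obj.map g.op (u h x hx)
  u_add : ∀ ⦃T' : C⦄ (h : T' ⟶ T) (x y : B.E.obj.obj (op T')) (hx : B.πP T' x = P.obj.map h.op p)
    (hy : B.πP T' y = P.obj.map h.op p),
    u h (B.add₂ T' x y (hx.trans hy.symm)) ((B.πP_add₂ T' x y _).trans hx) = u h x hx + u h y hy
  u_act : ∀ ⦃T' : C⦄ (h : T' ⟶ T) (g : G.obj.obj (op T')) (x : B.E.obj.obj (op T'))
    (hx : B.πP T' x = P.obj.map h.op p),
    u h (B.act T' g x) ((B.πP_act T' g x).trans hx) = O.ι.hom.app (op T') g + u h x hx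

variable {O} {T : C} {p : P.obj.obj (op T)}

theorem Datum.u_congr (D : Datum B O p) {T' : C} (h : T' ⟶ T) {h' : T' ⟶ T} {x y : B.E.obj.obj (op T')} (e : h = h')
    (e' : x = y) (hx : B.πP T' x = P.obj.map h.op p) (hy : B.πP T' y = P.obj.map h'.op p) :
    D.u h x hx = D.u h' y hy := by
  subst e e'; rfl

/-- Restriction of a datum. -/
def Datum.restrict (D : Datum B O p) {T₁ : C} (f : T₁ ⟶ T) : Datum B O (P.obj.map f.op p) where
  u T' h x hx := D.u (h ≫ f) x (hx.trans (map_map_ab P.obj h f p))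
  u_map T' T'' g h x hx hx' := (D.u_congr _ (Category.assoc g h f) rfl _ (hx'.trans
    ((map_map_ab P.obj (g ≫ h) f p).trans (by rw [Category.assoc])))).trans (D.u_map g (h ≫ f) x _ _)
  u_add T' h x y hx hy := D.u_add _ x y _ _
  u_act T' h g x hx := D.u_act _ g x _

theorem nonempty_datum [HasSheafify J AddCommGrpCat.{u + 1}] (p : P.obj.obj (op T)) : Nonempty (Datum B O p) := by
  let pU : ∀ U : (Over T)ᵒᵖ, P.obj.obj (op U.unop.left) := fun U => P.obj.map U.unop.hom.op p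
  have hp : ∀ {U V : (Over T)ᵒᵖ} (k : U ⟶ V), P.obj.map k.unop.left.op (pU U) = pU V := fun {U V} k => by
    show P.obj.map k.unop.left.op (P.obj.map U.unop.hom.op p) = P.obj.map V.unop.hom.op p
    rw [map_map_ab, Over.w k.unop]
  let EP : (Over T)ᵒᵖ ⥤ AddCommGrpCat.{u + 1} :=
    { obj := fun U => AddCommGrpCat.of (Fib B (pU U))
      map := fun {U V} k => AddCommGrpCat.ofHom (Fib.res B k.unop.left (hp k))
      map_id := fun U => AddCommGrpCat.ext fun x => Fib.ext (map_id_type B.E.obj x.1)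
      map_comp := fun {U V W} k l => AddCommGrpCat.ext fun x =>
        Fib.ext (map_map_type B.E.obj l.unop.left k.unop.left x.1).symm }
  let i : (Over.forget T).op ⋙ G.obj ⟶ EP :=
    { app := fun U => AddCommGrpCat.ofHom (Fib.iota (B := B) (p := pU U))
      naturality := fun U V k => AddCommGrpCat.ext fun g => (Fib.res_iota k.unop.left (hp k) g).symm }
  haveI : ∀ U, Mono (i.app U) := fun U =>
    (AddCommGrpCat.mono_iff_injective _).2 (Fib.iota_injective (B := B) (p := pU U))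
  haveI : Mono i := NatTrans.mono_of_mono_app i
  haveI := O.inj
  haveI := injective_restrict T O.I0
  let u := Injective.factorThru (Functor.whiskerLeft (Over.forget T).op O.ι.hom) i
  have hu : i ≫ u = Functor.whiskerLeft (Over.forget T).op O.ι.hom := Injective.comp_factorThru _ _
  refine ⟨{ u := fun T' h x hx => u.app (op (Over.mk h)) ⟨x, hx⟩, u_map := ?_, u_add := ?_, u_act := ?_ }⟩
  · intro T' T'' g h x hx hx'
    exact ConcreteCategory.congr_hom (u.naturality (Over.homMk g : Over.mk (g ≫ h) ⟶ Over.mk h).op)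
      (⟨x, hx⟩ : Fib B (pU (op (Over.mk h))))
  · intro T' h x y hx hy
    let X : Fib B (pU (op (Over.mk h))) := ⟨x, hx⟩
    let Y : Fib B (pU (op (Over.mk h))) := ⟨y, hy⟩
    exact map_add (u.app (op (Over.mk h))).hom X Y
  · intro T' h g x hx
    let X : Fib B (pU (op (Over.mk h))) := ⟨x, hx⟩
    have e : u.app (op (Over.mk h)) (Fib.iota g) = O.ι.hom.app (op T') g :=
      ConcreteCategory.congr_hom (NatTrans.congr_app hu (op (Over.mk h))) g
    refine Eq.trans ?_ ((map_add (u.app (op (Over.mk h))).hom (Fib.iota g) X).trans (congrArg (· + _) e))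
    exact congrArg (u.app (op (Over.mk h))) (Fib.ext (Fib.iota_add g X).symm)

/-- The graph of the obstruction cochain. -/
def Datum.graph (D : Datum B O p) : Graph J Q O.I1 T where
  Rel T' h q m := ∃ x hx, B.πQ T' x = q ∧ O.d0.hom.app (op T') (D.u h x hx) = m
  map T' T'' g h q m := by
    rintro ⟨x, hx, rfl, rfl⟩
    refine ⟨B.E.obj.map g.op x, by rw [B.πP_map, hx, map_map_ab], B.πQ_map g x, ?_⟩
    rw [D.u_map g h x hx]
    exact ConcreteCategory.congr_hom (O.d0.hom.naturality g.op) (D.u h x hx)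
  uniq T' h q m m' := by
    rintro ⟨x, hx, rfl, rfl⟩ ⟨y, hy, hq, rfl⟩
    obtain ⟨g, rfl⟩ := exists_act B x y (hx.trans hy.symm) hq.symm
    rw [D.u_act h g x hx, map_add, O.d0_ι, zero_add]
  add T' h q q' m m' := by
    rintro ⟨x, hx, rfl, rfl⟩ ⟨y, hy, rfl, rfl⟩
    exact ⟨_, _, B.πQ_add₂ T' x y (hx.trans hy.symm), by rw [D.u_add h x y hx hy, map_add]⟩
  total T' h q := by
    obtain ⟨R, hR, hloc⟩ := B.locallySurjective T' (P.obj.map h.op p) q
    refine ⟨R, hR, fun T'' g hg => ?_⟩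
    obtain ⟨x, hxP, hxQ⟩ := hloc g hg
    exact ⟨_, x, hxP.trans (map_map_ab P.obj g h p), hxQ, rfl⟩

/-- The obstruction cochain. -/
def Datum.ψ (D : Datum B O p) : Q.over T ⟶ O.I1.over T := D.graph.exists_hom.choose

theorem Datum.ψ_spec (D : Datum B O p) {T' : C} (h : T' ⟶ T) (x : B.E.obj.obj (op T'))
    (hx : B.πP T' x = P.obj.map h.op p) :
    appH D.ψ h (B.πQ T' x) = O.d0.hom.app (op T') (D.u h x hx) :=
  D.graph.exists_hom.choose_spec h _ _ ⟨x, hx, rfl, rfl⟩

theorem Datum.exists_z (D : Datum B O p) : ∃ z, O.iZ.hom.app (op T) z = D.ψ := by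
  refine O.exists_lift T D.ψ fun T' h q => ?_
  obtain ⟨R, hR, hloc⟩ := B.locallySurjective T' (P.obj.map h.op p) q
  refine ⟨R, hR, fun T'' g hg => ?_⟩
  obtain ⟨x, hxP, hxQ⟩ := hloc g hg
  refine ⟨D.u (g ≫ h) x (hxP.trans (map_map_ab P.obj g h p)), ?_⟩
  rw [← D.ψ_spec, hxQ, appH_map]

/-- The cycle of a datum. -/
def Datum.z (D : Datum B O p) : O.Z.obj.obj (op T) := D.exists_z.choose

theorem Datum.iZ_z (D : Datum B O p) : O.iZ.hom.app (op T) D.z = D.ψ := D.exists_z.choose_spec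

/-- The class of a datum. -/
def Datum.cls (D : Datum B O p) : H.obj.obj (op T) := O.π.hom.app (op T) D.z

theorem Datum.z_restrict (D : Datum B O p) {T₁ : C} (f : T₁ ⟶ T) :
    (D.restrict f).z = O.Z.obj.map f.op D.z := by
  have e : (D.restrict f).ψ = (HomSh.homSh J Q O.I1).obj.map f.op D.ψ := by
    refine (D.restrict f).graph.ext fun T' h q m hm => ?_
    obtain ⟨x, hx, rfl, -⟩ := hm
    rw [(D.restrict f).ψ_spec h x hx, appH_res]
    exact (D.ψ_spec (h ≫ f) x _).symm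
  refine O.iZ_injective T₁ ((D.restrict f).iZ_z.trans (e.trans ?_))
  rw [← D.iZ_z]
  exact (ConcreteCategory.congr_hom (O.iZ.hom.naturality f.op) D.z).symm

theorem Datum.cls_restrict (D : Datum B O p) {T₁ : C} (f : T₁ ⟶ T) :
    (D.restrict f).cls = H.obj.map f.op D.cls := by
  rw [Datum.cls, D.z_restrict]
  exact ConcreteCategory.congr_hom (O.π.hom.naturality f.op) D.z

theorem Datum.cls_add {p' p'' : P.obj.obj (op T)} (D : Datum B O p) (D' : Datum B O p') (D'' : Datum B O p'')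
    (hp : p'' = p + p') : D''.cls = D.cls + D'.cls := by
  subst hp
  have hP : ∀ {T' : C} (h : T' ⟶ T) (x y : B.E.obj.obj (op T')) (_ : B.πP T' x = P.obj.map h.op p)
      (_ : B.πP T' y = P.obj.map h.op p') (e : B.πQ T' x = B.πQ T' y),
      B.πP T' (B.add₁ T' x y e) = P.obj.map h.op (p + p') := fun h x y hx hy e => by
    rw [B.πP_add₁, hx, hy, map_add]
  let Γ : Graph J Q O.I0 T :=
    { Rel := fun T' h q m => ∃ x y hx hy, ∃ e : B.πQ T' x = B.πQ T' y, B.πQ T' x = q ∧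
        D''.u h (B.add₁ T' x y e) (hP h x y hx hy e) - D.u h x hx - D'.u h y hy = m
      map := fun T' T'' g h q m => by
        rintro ⟨x, y, hx, hy, e, rfl, rfl⟩
        have hx' : B.πP T'' (B.E.obj.map g.op x) = P.obj.map (g ≫ h).op p := by rw [B.πP_map, hx, map_map_ab]
        have hy' : B.πP T'' (B.E.obj.map g.op y) = P.obj.map (g ≫ h).op p' := by rw [B.πP_map, hy, map_map_ab]
        refine ⟨_, _, hx', hy', by rw [B.πQ_map, B.πQ_map, e], B.πQ_map g x, ?_⟩
        rw [map_sub, map_sub, ← D.u_map g h x hx hx', ← D'.u_map g h y hy hy']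
        have e'' : B.πP T'' (B.E.obj.map g.op (B.add₁ T' x y e)) = P.obj.map (g ≫ h).op (p + p') := by
          rw [B.πP_map, hP h x y hx hy e, map_map_ab]
        rw [← D''.u_map g h _ (hP h x y hx hy e) e'']
        exact congrArg (fun t => t - _ - _) (D''.u_congr _ rfl (B.add₁_map g x y e).symm _ _)
      uniq := fun T' h q m m' => by
        rintro ⟨x, y, hx, hy, e, hq, rfl⟩ ⟨x', y', hx', hy', e', hq', rfl⟩
        obtain ⟨g, rfl⟩ := exists_act B x x' (hx.trans hx'.symm) (hq.trans hq'.symm)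
        obtain ⟨g', rfl⟩ := exists_act B y y' (hy.trans hy'.symm)
          (e.symm.trans ((hq.trans hq'.symm).trans e'))
        have eq : B.add₁ T' (B.act T' g x) (B.act T' g' y) e' = B.act T' (g + g') (B.add₁ T' x y e) := by
          rw [B.add₁_act T' g x (B.act T' g' y) (e.trans (B.πQ_act T' g' y).symm), B.add₁_comm T' x _ _,
            B.add₁_act T' g' y x e.symm, B.add₁_comm T' y x _, ← B.add_act]
        rw [D''.u_congr h rfl eq _ ((B.πP_act T' _ _).trans (hP h x y hx hy e)),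
          D''.u_act h (g + g') _ (hP h x y hx hy e), D.u_act h g x hx, D'.u_act h g' y hy, map_add]
        abel
      add := fun T' h q₁ q₂ m₁ m₂ => by
        rintro ⟨x, y, hx, hy, e, rfl, rfl⟩ ⟨x₁, y₁, hx₁, hy₁, e₁, rfl, rfl⟩
        refine ⟨_, _, (B.πP_add₂ T' x x₁ (hx.trans hx₁.symm)).trans hx,
          (B.πP_add₂ T' y y₁ (hy.trans hy₁.symm)).trans hy, by rw [B.πQ_add₂, B.πQ_add₂, e, e₁],
          B.πQ_add₂ T' x x₁ _, ?_⟩
        have hc := B.compat T' x x₁ y y₁ (hx.trans hx₁.symm) (hy.trans hy₁.symm) e e₁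
        rw [D''.u_congr h rfl hc _ ((B.πP_add₂ T' _ _ _).trans (hP h x y hx hy e)),
          D''.u_add h _ _ (hP h x y hx hy e) (hP h x₁ y₁ hx₁ hy₁ e₁), D.u_add h x x₁ hx hx₁,
          D'.u_add h y y₁ hy hy₁]
        abel
      total := fun T' h q => by
        obtain ⟨R, hR, hloc⟩ := B.locallySurjective T' (P.obj.map h.op p) q
        obtain ⟨R', hR', hloc'⟩ := B.locallySurjective T' (P.obj.map h.op p') q
        refine ⟨R ⊓ R', J.intersection_covering hR hR', fun T'' g hg => ?_⟩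
        obtain ⟨x, hxP, hxQ⟩ := hloc g hg.1
        obtain ⟨y, hyP, hyQ⟩ := hloc' g hg.2
        exact ⟨_, x, y, hxP.trans (map_map_ab P.obj g h p), hyP.trans (map_map_ab P.obj g h p'),
          hxQ.trans hyQ.symm, hxQ, rfl⟩ }
  obtain ⟨v, hv⟩ := Γ.exists_hom
  have e : D''.ψ = D.ψ + D'.ψ +
      (show Q.over T ⟶ O.I1.over T from (HomSh.homShMap J (𝟙 Q) O.d0).hom.app (op T) v) := by
    refine Γ.ext fun T' h q m hm => ?_
    have hm' := hv h q m hm
    obtain ⟨x, y, hx, hy, e, rfl, rfl⟩ := hm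
    rw [appH_add, appH_add, appH_homShMap, hm', map_sub, map_sub, D.ψ_spec h x hx]
    conv_lhs => rw [← B.πQ_add₁ T' x y e, D''.ψ_spec h _ (hP h x y hx hy e)]
    conv_rhs => enter [1, 2]; rw [e, D'.ψ_spec h y hy]
    abel
  have ez : D''.z = D.z + D'.z + O.toZ.hom.app (op T) v := by
    refine O.iZ_injective T ?_
    rw [map_add, map_add, D''.iZ_z, D.iZ_z, D'.iZ_z, e]
    exact congrArg (_ + ·) (ConcreteCategory.congr_hom (NatTrans.congr_app (congrArg (fun k => k.hom) O.toZ_iZ) (op T)) v).symm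
  show O.π.hom.app (op T) D''.z = _
  rw [ez, map_add, map_add]
  have h0 : O.π.hom.app (op T) (O.toZ.hom.app (op T) v) = 0 :=
    ConcreteCategory.congr_hom (NatTrans.congr_app (congrArg (fun k => k.hom) O.toZ_π) (op T)) v
  rw [h0, add_zero]
  rfl

theorem Datum.cls_eq (D D' : Datum B O p) [HasSheafify J AddCommGrpCat.{u + 1}] : D.cls = D'.cls := by
  obtain ⟨D₀⟩ := nonempty_datum (B := B) (O := O) (0 : P.obj.obj (op T))
  rw [D.cls_add D₀ D (add_zero p).symm, D.cls_add D₀ D' (add_zero p).symm]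

theorem Datum.exists_split (D : Datum B O p) (v : Q.over T ⟶ O.I0.over T) (hv : O.toZ.hom.app (op T) v = D.z) :
    Nonempty (Split B p) := by
  have hvψ : ∀ ⦃T' : C⦄ (h : T' ⟶ T) (q : Q.obj.obj (op T')),
      O.d0.hom.app (op T') (appH v h q) = appH D.ψ h q := fun T' h q => by
    rw [← D.iZ_z, ← hv, ← appH_homShMap]
    exact congrArg (fun t => appH t h q)
      (ConcreteCategory.congr_hom (NatTrans.congr_app (congrArg (fun k => k.hom) O.toZ_iZ) (op T)) v).symm
  let Φ : ∀ ⦃T' : C⦄, (T' ⟶ T) → Q.obj.obj (op T') → B.E.obj.obj (op T') → Prop := fun T' h q x =>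
    ∃ hx : B.πP T' x = P.obj.map h.op p, B.πQ T' x = q ∧ D.u h x hx = appH v h q
  have huniq : ∀ ⦃T' : C⦄ (h : T' ⟶ T) q x y, Φ h q x → Φ h q y → x = y := by
    rintro T' h q x y ⟨hx, hxQ, hxu⟩ ⟨hy, hyQ, hyu⟩
    obtain ⟨g, rfl⟩ := exists_act B x y (hx.trans hy.symm) (hxQ.trans hyQ.symm)
    rw [D.u_act h g x hx, hxu, add_eq_right] at hyu
    rw [O.ι_injective T' (hyu.trans (map_zero _).symm), B.zero_act]
  have hmap : ∀ ⦃T' T'' : C⦄ (g : T'' ⟶ T') (h : T' ⟶ T) q x, Φ h q x →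
      Φ (g ≫ h) (Q.obj.map g.op q) (B.E.obj.map g.op x) := by
    rintro T' T'' g h q x ⟨hx, rfl, hu⟩
    exact ⟨by rw [B.πP_map, hx, map_map_ab], B.πQ_map g x, by rw [D.u_map g h x hx, hu, appH_map]⟩
  have hex : ∀ ⦃T' : C⦄ (h : T' ⟶ T) (q : Q.obj.obj (op T')), ∃ x, Φ h q x := by
    intro T' h q
    obtain ⟨R, hR, hloc⟩ := B.locallySurjective T' (P.obj.map h.op p) q
    obtain ⟨x, hx⟩ := glue B.E hR (fun T'' g _ x => Φ (g ≫ h) (Q.obj.map g.op q) x)
      (fun T'' T₃ g _ k x hx => by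
        have := hmap k (g ≫ h) _ x hx
        rw [map_map_ab, ← Category.assoc] at this
        exact this)
      (fun T'' g _ x y => huniq _ _ x y)
      (fun T'' g hg => by
        obtain ⟨x, hxP, hxQ⟩ := hloc g hg
        have hxP' := hxP.trans (map_map_ab P.obj g h p)
        obtain ⟨c, hc⟩ := O.exists_of_d0 T'' (appH v (g ≫ h) (Q.obj.map g.op q) - D.u (g ≫ h) x hxP') (by
          rw [map_sub, hvψ, ← hxQ, D.ψ_spec (g ≫ h) x hxP', sub_self])
        exact ⟨B.act T'' c x, (B.πP_act T'' c x).trans hxP', (B.πQ_act T'' c x).trans hxQ,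
          by rw [D.u_act _ c x hxP', hc, sub_add_cancel]⟩)
    have hP : B.πP T' x = P.obj.map h.op p := sep_ab P hR fun T'' g hg => by
      rw [← B.πP_map, (hx g hg).choose, map_map_ab]
    refine ⟨x, hP, sep_ab Q hR fun T'' g hg => by rw [← B.πQ_map]; exact (hx g hg).choose_spec.1, ?_⟩
    refine sep_ab O.I0 hR fun T'' g hg => ?_
    rw [← appH_map, ← D.u_map g h x hP (hx g hg).choose]
    exact (hx g hg).choose_spec.2
  choose s hsP hsQ hsu using hex
  refine ⟨{ s := s, πP_s := hsP, πQ_s := hsQ, s_map := fun T' T'' g h q => ?_, s_add := fun T' h q q' => ?_ }⟩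
  · exact huniq _ _ _ _ (hmap g h q _ ⟨hsP h q, hsQ h q, hsu h q⟩) ⟨hsP _ _, hsQ _ _, hsu _ _⟩
  · refine huniq h _ _ _ ⟨hsP _ _, hsQ _ _, hsu _ _⟩
      ⟨(B.πP_add₂ T' _ _ _).trans (hsP h q), by rw [B.πQ_add₂, hsQ, hsQ], ?_⟩
    rw [D.u_add h _ _ (hsP h q) (hsP h q'), hsu, hsu, map_add]

/-- If every morphism `P ⟶ H` vanishes, every section of `P` carries a linear splitting locally. -/
theorem exists_split_locally [HasSheafify J AddCommGrpCat.{u + 1}] (O : Obstruction Q G H)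
    (h₂ : ∀ φ : P ⟶ H, φ = 0) {T : C} (p : P.obj.obj (op T)) :
    ∃ R ∈ J T, ∀ ⦃T' : C⦄ (f : T' ⟶ T), R f → Nonempty (Split B (P.obj.map f.op p)) := by
  let D : ∀ (T : C) (p : P.obj.obj (op T)), Datum B O p := fun T p => (nonempty_datum p).some
  let φ : P ⟶ H := ⟨{
    app := fun U => AddCommGrpCat.ofHom (AddMonoidHom.mk' (fun p => (D (unop U) p).cls)
      fun p p' => (D _ p).cls_add (D _ p') (D _ (p + p')) rfl)
    naturality := fun U V k => AddCommGrpCat.ext fun p =>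
      ((D (unop V) _).cls_eq ((D (unop U) p).restrict k.unop)).trans ((D (unop U) p).cls_restrict k.unop) }⟩
  have h0 : (D T p).cls = 0 := ConcreteCategory.congr_hom (NatTrans.congr_app (congrArg (fun k => k.hom) (h₂ φ)) (op T)) p
  obtain ⟨R, hR, hloc⟩ := O.exact T _ h0
  refine ⟨R, hR, fun T' f hf => ?_⟩
  obtain ⟨v, hv⟩ := hloc f hf
  have ez := (D T p).z_restrict f
  exact ((D T p).restrict f).exists_split v (hv.trans ez.symm)

end Groth.Agent.BiextExtLib
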