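import Groth.Agent.BiextExtLib.Triv

/-!
# Double duality in an extension
-/

set_option autoImplicit false
set_option backward.isDefEq.respectTransparency false

universe u

open CategoryTheory Opposite Limits

noncomputable section

namespace Groth.Agent.BiextExtLib

variable {C : Type (u + 1)} [Category.{u} C] {J : GrothendieckTopology C}
  {G₁ G₂ G₃ M H : Sheaf J AddCommGrpCat.{u + 1}}

variable (i : G₁ ⟶ G₂) (g : G₂ ⟶ G₃) (hi : ∀ T : C, Function.Injective (i.hom.app (op T)))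
  (hgi : ∀ (T : C) (y : G₁.obj.obj (op T)), g.hom.app (op T) (i.hom.app (op T) y) = 0)
  (hker : ∀ (T : C) (x : G₂.obj.obj (op T)), g.hom.app (op T) x = 0 → ∃ y, i.hom.app (op T) y = x)
  (hsurj : ∀ (T : C) (z : G₃.obj.obj (op T)), ∃ R ∈ J T, ∀ ⦃T' : C⦄ (f : T' ⟶ T), R f →
    ∃ x, g.hom.app (op T') x = G₃.obj.map f.op z)

theorem natApp {X Y : Sheaf J AddCommGrpCat.{u + 1}} (a : X ⟶ Y) {T T' : C} (f : T' ⟶ T) (x : X.obj.obj (op T)) :
    Y.obj.map f.op (a.hom.app (op T) x) = a.hom.app (op T') (X.obj.map f.op x) :=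
  (ConcreteCategory.congr_hom (a.hom.naturality f.op) x).symm

include hi hgi hker hsurj in
/-- A morphism out of `G₁` extends to `G₂` locally, when the obstruction group vanishes. -/
theorem extend_locally [HasSheafify J AddCommGrpCat.{u + 1}] (O : Obstruction G₃ M H)
    (hH : ∀ (T : C) (x : H.obj.obj (op T)), x = 0) {T : C} (φ : G₁.over T ⟶ M.over T) :
    ∃ R ∈ J T, ∀ ⦃T' : C⦄ (f : T' ⟶ T), R f → ∃ χ : G₂.over T' ⟶ M.over T',
      ∀ ⦃U : C⦄ (h : U ⟶ T') (y : G₁.obj.obj (op U)), appH χ h (i.hom.app (op U) y) = appH φ (h ≫ f) y := by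
  let iT := Functor.whiskerLeft (Over.forget T).op i.hom
  haveI : ∀ U, Mono (iT.app U) := fun U => (AddCommGrpCat.mono_iff_injective _).2 (hi (unop U).left)
  haveI : Mono iT := NatTrans.mono_of_mono_app iT
  haveI := O.inj
  haveI := injective_restrict T O.I0
  let φ' : (Over.forget T).op ⋙ G₁.obj ⟶ (Over.forget T).op ⋙ O.I0.obj :=
    φ.hom ≫ Functor.whiskerLeft (Over.forget T).op O.ι.hom
  let u₀ := Injective.factorThru φ' iT
  have hu : iT ≫ u₀ = φ' := Injective.comp_factorThru _ _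
  let u : G₂.over T ⟶ O.I0.over T := ⟨u₀⟩
  have hui : ∀ ⦃U : C⦄ (h : U ⟶ T) (y : G₁.obj.obj (op U)),
      appH u h (i.hom.app (op U) y) = O.ι.hom.app (op U) (appH φ h y) := fun U h y =>
    ConcreteCategory.congr_hom (NatTrans.congr_app hu (op (Over.mk h))) y
  let Γ : Graph J G₃ O.I1 T :=
    { Rel := fun U h q m => ∃ x, g.hom.app (op U) x = q ∧ O.d0.hom.app (op U) (appH u h x) = m
      map := fun U V k h q m => by
        rintro ⟨x, rfl, rfl⟩
        exact ⟨G₂.obj.map k.op x, (natApp g k x).symm, by rw [appH_map, natApp]⟩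
      uniq := fun U h q m m' => by
        rintro ⟨x, hx, rfl⟩ ⟨x', hx', rfl⟩
        obtain ⟨y, hy⟩ := hker U (x - x') (by rw [map_sub, hx, hx', sub_self])
        rw [← sub_eq_zero, ← map_sub, ← map_sub, ← hy, hui, O.d0_ι]
      add := fun U h q q' m m' => by
        rintro ⟨x, rfl, rfl⟩ ⟨x', rfl, rfl⟩
        exact ⟨x + x', map_add _ _ _, by rw [map_add, map_add]⟩
      total := fun U h q => by
        obtain ⟨R, hR, hR'⟩ := hsurj U q
        exact ⟨R, hR, fun V k hk => (hR' k hk).elim fun x hx => ⟨_, x, hx, rfl⟩⟩ }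
  obtain ⟨ψ, hψ⟩ := Γ.exists_hom
  obtain ⟨z, hz⟩ := O.exists_lift T ψ fun U h q => by
    obtain ⟨R, hR, hR'⟩ := hsurj U q
    refine ⟨R, hR, fun V k hk => ?_⟩
    obtain ⟨x, hx⟩ := hR' k hk
    exact ⟨appH u (k ≫ h) x, by rw [← appH_map]; exact (hψ _ _ _ ⟨x, hx, rfl⟩).symm⟩
  obtain ⟨R, hR, hv⟩ := O.exact T z (hH T _)
  refine ⟨R, hR, fun T' f hf => ?_⟩
  obtain ⟨v, hv⟩ := hv f hf
  have hdv : ∀ ⦃U : C⦄ (h : U ⟶ T') (x : G₂.obj.obj (op U)),
      O.d0.hom.app (op U) (appH v h (g.hom.app (op U) x)) = O.d0.hom.app (op U) (appH u (h ≫ f) x) := by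
    intro U h x
    rw [← hψ (h ≫ f) _ _ ⟨x, rfl, rfl⟩, ← appH_res, ← appH_homShMap]
    refine congrArg (fun t => appH t h _) ?_
    refine (ConcreteCategory.congr_hom
      (NatTrans.congr_app (congrArg (fun k => k.hom) O.toZ_iZ) (op T')) v).symm.trans ?_
    show O.iZ.hom.app (op T') (O.toZ.hom.app (op T') v) = _
    rw [hv, ← hz]
    exact (natApp O.iZ f z).symm
  have hex : ∀ ⦃U : C⦄ (h : U ⟶ T') (x : G₂.obj.obj (op U)),
      ∃ c, O.ι.hom.app (op U) c = appH u (h ≫ f) x - appH v h (g.hom.app (op U) x) := fun U h x =>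
    O.exists_of_d0 U _ (by rw [map_sub, hdv, sub_self])
  choose c hc using hex
  refine ⟨mkHom (fun U h => AddMonoidHom.mk' (c h) fun x x' => O.ι_injective U ?_) fun U V k h x =>
    O.ι_injective V ?_, fun U h y => ?_⟩
  · rw [map_add, hc, hc, hc, map_add, map_add, map_add]; abel
  · show O.ι.hom.app (op V) (c (k ≫ h) (G₂.obj.map k.op x)) = O.ι.hom.app (op V) (M.obj.map k.op (c h x))
    rw [← natApp, hc, hc, map_sub, Category.assoc, appH_map, ← natApp g k, appH_map]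
  · refine O.ι_injective U ?_
    rw [appH_mkHom]
    show O.ι.hom.app (op U) (c h (i.hom.app (op U) y)) = _
    rw [hc, hgi, map_zero, sub_zero, hui]

include hi hgi hker hsurj in
theorem bijective_bidualMap
    (hext : ∀ (T : C) (φ : G₁.over T ⟶ M.over T), ∃ R ∈ J T, ∀ ⦃T' : C⦄ (f : T' ⟶ T), R f →
      ∃ χ : G₂.over T' ⟶ M.over T',
        ∀ ⦃U : C⦄ (h : U ⟶ T') (y : G₁.obj.obj (op U)), appH χ h (i.hom.app (op U) y) = appH φ (h ≫ f) y)
    (h₁ : ∀ T : C, Function.Bijective ((HomSh.bidualMap J G₁ M).hom.app (op T)))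
    (h₃ : ∀ T : C, Function.Bijective ((HomSh.bidualMap J G₃ M).hom.app (op T))) (T : C) :
    Function.Bijective ((HomSh.bidualMap J G₂ M).hom.app (op T)) := by
  have eval : ∀ {F : Sheaf J AddCommGrpCat.{u + 1}} {T : C} (s : F.obj.obj (op T)) ⦃U : C⦄ (h : U ⟶ T)
      (φ : F.over U ⟶ M.over U),
      appH ((HomSh.bidualMap J F M).hom.app (op T) s : (HomSh.homSh J F M).over T ⟶ M.over T) h φ =
        appH φ (𝟙 U) (F.obj.map h.op s) := fun s U h φ => rfl
  -- composition with `g` and with `i`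
  let gd : ∀ {U : C}, (G₃.over U ⟶ M.over U) → (G₂.over U ⟶ M.over U) := fun {U} ξ =>
    (HomSh.homShMap J g (𝟙 M)).hom.app (op U) ξ
  have hinj : ∀ {T : C} (x : G₂.obj.obj (op T)), (HomSh.bidualMap J G₂ M).hom.app (op T) x = 0 → x = 0 := by
    intro T x hx
    have hgx : g.hom.app (op T) x = 0 := by
      refine (h₃ T).1 ?_
      rw [map_zero]
      refine appH_ext fun U h ξ => ?_
      rw [eval, natApp, appH_zero]
      show appH (gd ξ) (𝟙 U) (G₂.obj.map h.op x) = 0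
      rw [← eval, hx, appH_zero]
    obtain ⟨y, rfl⟩ := hker T x hgx
    suffices h0 : y = 0 by rw [h0, map_zero]
    refine (h₁ T).1 ?_
    rw [map_zero]
    refine appH_ext fun U h φ => ?_
    rw [eval, appH_zero]
    obtain ⟨R, hR, hχ⟩ := hext U φ
    refine sep_ab M hR fun U' f hf => ?_
    obtain ⟨χ, hχ⟩ := hχ f hf
    have e := eval (i.hom.app (op T) y) (f ≫ h) χ
    rw [hx, appH_zero, natApp, hχ, ← map_map_ab G₁.obj f h] at e
    rw [map_zero, ← appH_map, Category.comp_id]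
    rw [Category.id_comp] at e
    exact e.symm
  have hinj' : ∀ {T : C} (x x' : G₂.obj.obj (op T)),
      (HomSh.bidualMap J G₂ M).hom.app (op T) x = (HomSh.bidualMap J G₂ M).hom.app (op T) x' → x = x' :=
    fun x x' e => sub_eq_zero.1 (hinj _ (by rw [map_sub, e, sub_self]))
  refine ⟨fun x x' e => hinj' x x' e, fun w => ?_⟩
  let w' : (HomSh.homSh J G₂ M).over T ⟶ M.over T := w
  have key : ∃ R ∈ J T, ∀ ⦃T' : C⦄ (f : T' ⟶ T), R f → ∃ x, (HomSh.bidualMap J G₂ M).hom.app (op T') x =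
      (HomSh.homSh J (HomSh.homSh J G₂ M) M).obj.map f.op w := by
    obtain ⟨z, hz⟩ := (h₃ T).2 ((HomSh.homShMap J (HomSh.homShMap J g (𝟙 M)) (𝟙 M)).hom.app (op T) w)
    obtain ⟨R, hR, hR'⟩ := hsurj T z
    refine ⟨R, hR, fun T' f hf => ?_⟩
    obtain ⟨x, hx⟩ := hR' f hf
    let d : (HomSh.homSh J G₂ M).over T' ⟶ M.over T' :=
      (show (HomSh.homSh J G₂ M).over T' ⟶ M.over T' from
          (HomSh.homSh J (HomSh.homSh J G₂ M) M).obj.map f.op w) -
        (show (HomSh.homSh J G₂ M).over T' ⟶ M.over T' from (HomSh.bidualMap J G₂ M).hom.app (op T') x)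
    have hd : ∀ ⦃U : C⦄ (h : U ⟶ T') (χ : G₂.over U ⟶ M.over U),
        appH d h χ = appH w' (h ≫ f) χ - appH χ (𝟙 U) (G₂.obj.map h.op x) := fun U h χ => rfl
    have hd0 : ∀ ⦃U : C⦄ (h : U ⟶ T') (ξ : G₃.over U ⟶ M.over U), appH d h (gd ξ) = 0 := by
      intro U h ξ
      have e := congrArg (fun t : (HomSh.homSh J G₃ M).over T ⟶ M.over T => appH t (h ≫ f) ξ) hz
      have e' : appH w' (h ≫ f) (gd ξ) = appH ξ (𝟙 U) (G₃.obj.map (h ≫ f).op z) := e.symm.trans (eval z (h ≫ f) ξ)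
      rw [hd, e', ← map_map_ab, ← hx, natApp]
      exact sub_self _
    have hd1 : ∀ ⦃U : C⦄ (h : U ⟶ T') (χ : G₂.over U ⟶ M.over U),
        (∀ ⦃V : C⦄ (k : V ⟶ U) (y : G₁.obj.obj (op V)), appH χ k (i.hom.app (op V) y) = 0) → appH d h χ = 0 := by
      intro U h χ hχ
      let Γ : Graph J G₃ M U :=
        { Rel := fun V k q m => ∃ x, g.hom.app (op V) x = q ∧ appH χ k x = m
          map := fun V W l k q m => by
            rintro ⟨x, rfl, rfl⟩
            exact ⟨G₂.obj.map l.op x, (natApp g l x).symm, appH_map χ l k x⟩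
          uniq := fun V k q m m' => by
            rintro ⟨x, hx, rfl⟩ ⟨x', hx', rfl⟩
            obtain ⟨y, hy⟩ := hker V (x - x') (by rw [map_sub, hx, hx', sub_self])
            rw [← sub_eq_zero, ← map_sub, ← hy, hχ]
          add := fun V k q q' m m' => by
            rintro ⟨x, rfl, rfl⟩ ⟨x', rfl, rfl⟩
            exact ⟨x + x', map_add _ _ _, map_add _ _ _⟩
          total := fun V k q => by
            obtain ⟨R, hR, hR'⟩ := hsurj V q
            exact ⟨R, hR, fun W l hl => (hR' l hl).elim fun x hx => ⟨_, x, hx, rfl⟩⟩ }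
      obtain ⟨ξ, hξ⟩ := Γ.exists_hom
      have e : χ = gd ξ := appH_ext fun V k x => (hξ k _ _ ⟨x, rfl, rfl⟩).symm
      rw [e]
      exact hd0 h ξ
    let Γ : Graph J (HomSh.homSh J G₁ M) M T' :=
      { Rel := fun U h φ m => ∃ χ : G₂.over U ⟶ M.over U,
          (∀ ⦃V : C⦄ (k : V ⟶ U) (y : G₁.obj.obj (op V)), appH χ k (i.hom.app (op V) y) = appH φ k y) ∧
            appH d h χ = m
        map := fun U V l h φ m => by
          rintro ⟨χ, hχ, rfl⟩
          exact ⟨(HomSh.homSh J G₂ M).obj.map l.op χ, fun W k y => hχ (k ≫ l) y, appH_map d l h χ⟩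
        uniq := fun U h φ m m' => by
          rintro ⟨χ, hχ, rfl⟩ ⟨χ', hχ', rfl⟩
          rw [← sub_eq_zero, ← map_sub]
          exact hd1 h (χ - χ') fun V k y => by
            show appH χ k _ - appH χ' k _ = 0
            rw [hχ, hχ', sub_self]
        add := fun U h φ φ' m m' => by
          rintro ⟨χ, hχ, rfl⟩ ⟨χ', hχ', rfl⟩
          refine ⟨χ + χ', fun V k y => ?_, map_add (appH d h) _ _⟩
          rw [appH_add, hχ, hχ']
          rfl
        total := fun U h φ => by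
          obtain ⟨R, hR, hR'⟩ := hext U φ
          refine ⟨R, hR, fun V l hl => ?_⟩
          obtain ⟨χ, hχ⟩ := hR' l hl
          exact ⟨_, χ, fun W k y => (hχ k y).trans rfl, rfl⟩ }
    obtain ⟨w₁, hw₁⟩ := Γ.exists_hom
    obtain ⟨y, hy⟩ := (h₁ T').2 w₁
    refine ⟨x + i.hom.app (op T') y, appH_ext fun U h χ => ?_⟩
    have e : appH d h χ = appH χ (𝟙 U) (G₂.obj.map h.op (i.hom.app (op T') y)) := by
      rw [natApp]
      refine (hw₁ h ((HomSh.homShMap J i (𝟙 M)).hom.app (op U) χ) (appH d h χ) ⟨χ, fun V k y => rfl, rfl⟩).symm.trans ?_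
      rw [← hy]
      rfl
    rw [eval, map_add, map_add, ← e, hd]
    show appH χ (𝟙 U) _ + (appH w' (h ≫ f) χ - _) = appH w' (h ≫ f) χ
    rw [add_sub_cancel]
  obtain ⟨R, hR, hR'⟩ := key
  obtain ⟨x, hx⟩ := glue (Biext.uSh J G₂) hR
    (fun T' f _ x => (HomSh.bidualMap J G₂ M).hom.app (op T') x =
      (HomSh.homSh J (HomSh.homSh J G₂ M) M).obj.map f.op w)
    (fun T' T'' f _ k (x : G₂.obj.obj (op T')) hx => by
      rw [← map_map_ab, ← hx, natApp]
      rfl)
    (fun T' f _ x x' hx hx' => hinj' x x' (hx.trans hx'.symm))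
    hR'
  refine ⟨x, sep_ab _ hR fun T' f hf => ?_⟩
  rw [natApp]
  exact hx f hf

theorem isIso_of_bijective {X Y : Sheaf J AddCommGrpCat.{u + 1}} (f : X ⟶ Y)
    (h : ∀ T : C, Function.Bijective (f.hom.app (op T))) : IsIso f := by
  haveI : ∀ U, IsIso (f.hom.app U) := fun U => (ConcreteCategory.isIso_iff_bijective _).2 (h U.unop)
  haveI hh : IsIso f.hom := NatIso.isIso_of_isIso_app _
  exact ⟨⟨inv f.hom⟩, Sheaf.hom_ext (IsIso.hom_inv_id _), Sheaf.hom_ext (IsIso.inv_hom_id _)⟩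

theorem bijective_of_isIso {X Y : Sheaf J AddCommGrpCat.{u + 1}} (f : X ⟶ Y) [IsIso f] (T : C) :
    Function.Bijective (f.hom.app (op T)) :=
  (ConcreteCategory.isIso_iff_bijective _).1
    (inferInstanceAs (IsIso ((sheafToPresheaf J _ ⋙ (evaluation _ _).obj (op T)).map f)))

theorem isIso_bidualMap [HasSheafify J AddCommGrpCat.{u + 1}]
    [HasInjectiveResolutions (Sheaf J AddCommGrpCat.{u + 1})] [J.HasSheafCompose (forget AddCommGrpCat.{u + 1})]
    (S : ShortComplex (Sheaf J AddCommGrpCat.{u + 1})) (hS : S.ShortExact) (M : Sheaf J AddCommGrpCat.{u + 1})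
    (hExt : IsZero ((HomSh.extSh J S.X₃ 1).obj M))
    (h₁ : IsIso (HomSh.bidualMap J S.X₁ M)) (h₃ : IsIso (HomSh.bidualMap J S.X₃ M)) :
    IsIso (HomSh.bidualMap J S.X₂ M) := by
  haveI := hS.mono_f
  haveI := hS.epi_g
  have hi : ∀ T, Function.Injective (S.f.hom.app (op T)) := fun T => sect_injective S.f T
  have hgi : ∀ (T : C) (y : S.X₁.obj.obj (op T)), S.g.hom.app (op T) (S.f.hom.app (op T) y) = 0 := fun T y =>
    ConcreteCategory.congr_hom (NatTrans.congr_app (congrArg (fun k => k.hom) S.zero) (op T)) y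
  have hker : ∀ (T : C) (x : S.X₂.obj.obj (op T)), S.g.hom.app (op T) x = 0 → ∃ y, S.f.hom.app (op T) y = x :=
    fun T x hx => sect_exact S hS.exact hS.mono_f T x hx
  have hsurj : ∀ (T : C) (z : S.X₃.obj.obj (op T)), ∃ R ∈ J T, ∀ ⦃T' : C⦄ (f : T' ⟶ T), R f →
      ∃ x, S.g.hom.app (op T') x = S.X₃.obj.map f.op z := by
    haveI : Sheaf.IsLocallySurjective S.g := (Sheaf.isLocallySurjective_iff_epi' _ _).2 hS.epi_g
    exact fun T z => ⟨_, Presheaf.imageSieve_mem J S.g.hom z, fun T' f hf => hf⟩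
  have hH : ∀ (T : C) (x : ((HomSh.extSh J S.X₃ 1).obj M).obj.obj (op T)), x = 0 := fun T x =>
    ConcreteCategory.congr_hom (NatTrans.congr_app (congrArg (fun k => k.hom) (hExt.eq_of_src (𝟙 _) 0)) (op T)) x
  refine isIso_of_bijective _ fun T => bijective_bidualMap S.f S.g hi hgi hker hsurj ?_ ?_ ?_ T
  · exact fun T φ => extend_locally S.f S.g hi hgi hker hsurj (obstruction S.X₃ (injectiveResolution M)) hH φ
  · exact fun T => bijective_of_isIso _ T
  · exact fun T => bijective_of_isIso _ T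

end Groth.Agent.BiextExtLib
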