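import Groth.Agent.BiextExtLib.DoubleDual

/-!
# The first Ext sheaf out of a locally free abelian sheaf of finite rank vanishes
-/

set_option autoImplicit false
set_option backward.isDefEq.respectTransparency false
set_option linter.style.haveILetI false

universe u

open CategoryTheory Opposite Limits

noncomputable section

namespace Groth.Agent.BiextExtLib

variable {C : Type (u + 1)} [Category.{u} C] {J : GrothendieckTopology C}

/-- A basis of `X` over `T`: every section is locally a combination of `r` given sections, uniquely unless the empty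
sieve covers. -/
structure LocBasis (X : Sheaf J AddCommGrpCat.{u + 1}) (T : C) where
  /-- the rank -/
  r : ℕ
  /-- the combinations of the basis -/
  Φ : (Fin r → ℤ) →+ X.obj.obj (op T)
  gen : ∀ ⦃U : C⦄ (h : U ⟶ T) (q : X.obj.obj (op U)), ∃ R ∈ J U, ∀ ⦃V : C⦄ (g : V ⟶ U), R g →
    ∃ n, X.obj.map g.op q = X.obj.map (g ≫ h).op (Φ n)
  uniq : ∀ ⦃U : C⦄ (h : U ⟶ T) (n n' : Fin r → ℤ), X.obj.map h.op (Φ n) = X.obj.map h.op (Φ n') →
    n = n' ∨ (⊥ : Sieve U) ∈ J U

theorem isZero_extSh_one [HasSheafify J AddCommGrpCat.{u + 1}]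
    [HasInjectiveResolutions (Sheaf J AddCommGrpCat.{u + 1})] [J.HasSheafCompose (forget AddCommGrpCat.{u + 1})]
    (X M : Sheaf J AddCommGrpCat.{u + 1})
    (hX : ∀ T : C, ∃ R ∈ J T, ∀ ⦃T' : C⦄ (f : T' ⟶ T), R f → Nonempty (LocBasis X T')) :
    IsZero ((HomSh.extSh J X 1).obj M) := by
  let R := injectiveResolution M
  let K := homCx X R
  let π := K.homologyπ 1 ≫ (extIso X R).inv
  haveI : Epi π := inferInstance
  -- every class is killed locally
  have hzero : ∀ (T : C) (z : (K.cycles 1).obj.obj (op T)), π.hom.app (op T) z = 0 := by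
    intro T z
    obtain ⟨S, hS, hS'⟩ := hX T
    refine sep_ab _ hS fun T' f hf => ?_
    obtain ⟨B⟩ := hS' f hf
    rw [map_zero, natApp]
    generalize (K.cycles 1).obj.map f.op z = z'
    clear z hS' hf hS S f T
    let ψ : X.over T' ⟶ (R.cocomplex.X 1).over T' := (K.iCycles 1).hom.app (op T') z'
    have hψ : ∀ ⦃U : C⦄ (h : U ⟶ T') (q : X.obj.obj (op U)),
        (R.cocomplex.d 1 2).hom.app (op U) (appH ψ h q) = 0 := by
      intro U h q
      refine (appH_homShMap (R.cocomplex.d 1 2) ψ h q).symm.trans ?_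
      have e : (HomSh.homShMap J (𝟙 X) (R.cocomplex.d 1 2)).hom.app (op T') ψ = 0 := by
        rw [← homCx_d]
        exact ConcreteCategory.congr_hom
          (NatTrans.congr_app (congrArg (fun t => t.hom) (K.iCycles_d 1 2)) (op T')) z'
      exact (congrArg (fun t : X.over T' ⟶ (R.cocomplex.X 2).over T' => appH t h q) e).trans (appH_zero h q)
    let e : Fin B.r → X.obj.obj (op T') := fun i => B.Φ (Pi.single i 1)
    let a : Fin B.r → (R.cocomplex.X 1).obj.obj (op T') := fun i => appH ψ (𝟙 T') (e i)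
    have hloc : ∀ i, ∃ S ∈ J T', ∀ ⦃V : C⦄ (g : V ⟶ T'), S g →
        ∃ m, (R.cocomplex.d 0 1).hom.app (op V) m = (R.cocomplex.X 1).obj.map g.op (a i) := fun i =>
      exact_locally _ (R.exact_succ 0) T' (a i) (hψ (𝟙 T') (e i))
    choose S hS hS' using hloc
    have hcov : (Finset.univ.inf S) ∈ J T' :=
      Finset.inf_induction (J.top_mem T') (fun _ h _ h' => J.intersection_covering h h') fun i _ => hS i
    refine sep_ab _ hcov fun V g hg => ?_
    rw [map_zero, natApp]
    have hm : ∀ i, ∃ m, (R.cocomplex.d 0 1).hom.app (op V) m = (R.cocomplex.X 1).obj.map g.op (a i) :=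
      fun i => hS' i g ((Finset.inf_le (Finset.mem_univ i) : Finset.univ.inf S ≤ S i) g hg)
    choose b hb using hm
    let Bm : (Fin B.r → ℤ) →+ (R.cocomplex.X 0).obj.obj (op V) :=
      AddMonoidHom.mk' (fun n => ∑ i, n i • b i) fun n n' => by
        simp only [Pi.add_apply, add_smul, Finset.sum_add_distrib]
    have hBm : ∀ n, (R.cocomplex.d 0 1).hom.app (op V) (Bm n) =
        appH ψ g (X.obj.map g.op (B.Φ n)) := by
      intro n
      have hn : n = ∑ i, n i • (Pi.single i 1 : Fin B.r → ℤ) := by
        ext j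
        simp [Finset.sum_apply, Pi.single_apply]
      conv_rhs => rw [hn]
      show (R.cocomplex.d 0 1).hom.app (op V) (∑ i, n i • b i) = _
      rw [map_sum, map_sum, map_sum, map_sum]
      refine Finset.sum_congr rfl fun i _ => ?_
      rw [map_zsmul, map_zsmul, map_zsmul, map_zsmul, hb]
      congr 1
      refine (appH_map ψ g (𝟙 T') (e i)).symm.trans ?_
      rw [Category.comp_id]
    let Γ : Graph J X (R.cocomplex.X 0) V :=
      { Rel := fun U h q m => ∃ n, q = X.obj.map (h ≫ g).op (B.Φ n) ∧ m = (R.cocomplex.X 0).obj.map h.op (Bm n)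
        map := fun U W k h q m => by
          rintro ⟨n, rfl, rfl⟩
          exact ⟨n, by rw [map_map_ab, Category.assoc], by rw [map_map_ab]⟩
        uniq := fun U h q m m' => by
          rintro ⟨n, rfl, rfl⟩ ⟨n', hn', rfl⟩
          rcases B.uniq (h ≫ g) n n' hn' with rfl | hbot
          · rfl
          · exact sep_ab _ hbot fun _ _ hk => hk.elim
        add := fun U h q q' m m' => by
          rintro ⟨n, rfl, rfl⟩ ⟨n', rfl, rfl⟩
          exact ⟨n + n', by rw [map_add, map_add], by rw [map_add, map_add]⟩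
        total := fun U h q => by
          obtain ⟨S, hS, hS'⟩ := B.gen (h ≫ g) q
          refine ⟨S, hS, fun W k hk => ?_⟩
          obtain ⟨n, hn⟩ := hS' k hk
          exact ⟨_, n, by rw [hn, Category.assoc], rfl⟩ }
    obtain ⟨v, hv⟩ := Γ.exists_hom
    have key : (K.toCycles 0 1).hom.app (op V) v = (K.cycles 1).obj.map g.op z' := by
      refine sect_injective (K.iCycles 1) V ?_
      rw [← natApp]
      refine ((ConcreteCategory.congr_hom (NatTrans.congr_app (congrArg (fun t => t.hom)
        ((K.toCycles_i 0 1).trans (homCx_d X R 0 1))) (op V)) v)).trans ?_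
      refine appH_ext (Q := X) (M := R.cocomplex.X 1) fun U h q => ?_
      refine (appH_homShMap (R.cocomplex.d 0 1) v h q).trans (Eq.trans ?_ (appH_res ψ g h q).symm)
      obtain ⟨S, hS, hS'⟩ := B.gen (h ≫ g) q
      refine sep_ab _ hS fun W k hk => ?_
      obtain ⟨n, hn⟩ := hS' k hk
      rw [natApp, ← appH_map, ← appH_map, hn, hv (k ≫ h) _ _ ⟨n, by rw [Category.assoc], rfl⟩, ← natApp, hBm,
        ← appH_map, map_map_ab, Category.assoc]
    rw [← key]
    exact ConcreteCategory.congr_hom (NatTrans.congr_app (congrArg (fun t => t.hom)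
      (show K.toCycles 0 1 ≫ π = 0 by
        rw [← Category.assoc, K.toCycles_comp_homologyπ 0 1, zero_comp])) (op V)) v
  have hπ : π = 0 := Sheaf.hom_ext (NatTrans.ext (funext fun T => AddCommGrpCat.ext fun z => hzero (unop T) z))
  rw [IsZero.iff_id_eq_zero]
  refine (cancel_epi π).1 ?_
  rw [hπ, zero_comp, zero_comp]

end Groth.Agent.BiextExtLib
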