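import Groth.Prelude.Def_Biext
import Mathlib.CategoryTheory.Sites.LocallySurjective

/-!
# The two partial laws of a biextension are group laws on their fibres
-/

set_option autoImplicit false

universe u

open CategoryTheory Opposite

noncomputable section

namespace Groth.Agent.BiextExtLib

variable {C : Type (u + 1)} [Category.{u} C] {J : GrothendieckTopology C}
  {P Q G : Sheaf J AddCommGrpCat.{u + 1}}

theorem map_map_type (F : Cᵒᵖ ⥤ Type (u + 1)) {T T' T'' : C} (g : T'' ⟶ T') (f : T' ⟶ T) (x : F.obj (op T)) :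
    F.map g.op (F.map f.op x) = F.map (g ≫ f).op x := by
  rw [op_comp, Functor.map_comp]; rfl

theorem map_map_ab (F : Cᵒᵖ ⥤ AddCommGrpCat.{u + 1}) {T T' T'' : C} (g : T'' ⟶ T') (f : T' ⟶ T) (x : F.obj (op T)) :
    F.map g.op (F.map f.op x) = F.map (g ≫ f).op x := by
  rw [op_comp, Functor.map_comp]; rfl

theorem map_id_type (F : Cᵒᵖ ⥤ Type (u + 1)) {T : C} (x : F.obj (op T)) : F.map (𝟙 T).op x = x := by
  rw [op_id, CategoryTheory.Functor.map_id]; rfl

theorem map_id_ab (F : Cᵒᵖ ⥤ AddCommGrpCat.{u + 1}) {T : C} (x : F.obj (op T)) : F.map (𝟙 T).op x = x := by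
  rw [op_id, CategoryTheory.Functor.map_id]; rfl

theorem sep_type (F : Sheaf J (Type (u + 1))) {T : C} {R : Sieve T} (hR : R ∈ J T) {a b : F.obj.obj (op T)}
    (h : ∀ ⦃T' : C⦄ (f : T' ⟶ T), R f → F.obj.map f.op a = F.obj.map f.op b) : a = b :=
  (((isSheaf_iff_isSheaf_of_type J _).1 F.property) R hR).isSeparatedFor.ext fun _ f hf => h f hf

theorem sep_ab (F : Sheaf J AddCommGrpCat.{u + 1}) {T : C} {R : Sieve T} (hR : R ∈ J T) {a b : F.obj.obj (op T)}
    (h : ∀ ⦃T' : C⦄ (f : T' ⟶ T), R f → F.obj.map f.op a = F.obj.map f.op b) : a = b :=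
  sep_type (Biext.uSh J F) hR h

/-- Gluing of sections singled out by a property. -/
theorem glue (F : Sheaf J (Type (u + 1))) {T : C} {R : Sieve T} (hR : R ∈ J T)
    (Φ : ∀ ⦃T' : C⦄ (f : T' ⟶ T), R f → F.obj.obj (op T') → Prop)
    (hmap : ∀ ⦃T' T'' : C⦄ (f : T' ⟶ T) (hf : R f) (g : T'' ⟶ T') (x : F.obj.obj (op T')),
      Φ f hf x → Φ (g ≫ f) (R.downward_closed hf g) (F.obj.map g.op x))
    (huniq : ∀ ⦃T' : C⦄ (f : T' ⟶ T) (hf : R f) (x y : F.obj.obj (op T')), Φ f hf x → Φ f hf y → x = y)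
    (hex : ∀ ⦃T' : C⦄ (f : T' ⟶ T) (hf : R f), ∃ x, Φ f hf x) :
    ∃ x : F.obj.obj (op T), ∀ ⦃T' : C⦄ (f : T' ⟶ T) (hf : R f), Φ f hf (F.obj.map f.op x) := by
  choose fam hfam using hex
  have key : ∀ ⦃T' T'' : C⦄ (f : T' ⟶ T) (hf : R f) (g : T'' ⟶ T') (k : T'' ⟶ T) (hk : R k),
      g ≫ f = k → Φ k hk (F.obj.map g.op (fam f hf)) := fun T' T'' f hf g k hk he => by
    subst he; exact hmap f hf g _ (hfam f hf)
  have hc : Presieve.FamilyOfElements.Compatible (P := F.obj) (R := (R : Sieve T).arrows) fun T' f hf => fam f hf := by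
    intro T₁ T₂ Z g₁ g₂ f₁ f₂ hf₁ hf₂ h
    exact huniq _ (R.downward_closed hf₁ g₁) _ _ (key f₁ hf₁ g₁ _ _ rfl) (key f₂ hf₂ g₂ _ _ h.symm)
  have hsh := ((isSheaf_iff_isSheaf_of_type J _).1 F.property) R hR
  exact ⟨hsh.amalgamate _ hc, fun T' f hf => by rw [hsh.valid_glue hc f hf]; exact hfam f hf⟩

section Laws

variable (B : Biext J P Q G)

theorem add₂_congr {T : C} {a a' b b' : B.E.obj.obj (op T)} (ha : a = a') (hb : b = b')
    (h : B.πP T a = B.πP T b) (h' : B.πP T a' = B.πP T b') : B.add₂ T a b h = B.add₂ T a' b' h' := by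
  subst ha hb; rfl

theorem add₁_congr {T : C} {a a' b b' : B.E.obj.obj (op T)} (ha : a = a') (hb : b = b')
    (h : B.πQ T a = B.πQ T b) (h' : B.πQ T a' = B.πQ T b') : B.add₁ T a b h = B.add₁ T a' b' h' := by
  subst ha hb; rfl

theorem act_inj {T : C} {g g' : G.obj.obj (op T)} {x : B.E.obj.obj (op T)} (h : B.act T g x = B.act T g' x) :
    g = g' :=
  (B.existsUnique_act T x (B.act T g' x) (B.πP_act T g' x).symm (B.πQ_act T g' x).symm).unique h rfl

theorem add₂_act_right {T : C} (g : G.obj.obj (op T)) (x y : B.E.obj.obj (op T)) (h : B.πP T x = B.πP T y) :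
    B.add₂ T x (B.act T g y) (h.trans (B.πP_act T g y).symm) = B.act T g (B.add₂ T x y h) := by
  rw [B.add₂_comm T x _ _, B.add₂_act T g y x h.symm, B.add₂_comm T y x h.symm]

theorem exists_act {T : C} (x y : B.E.obj.obj (op T)) (hP : B.πP T x = B.πP T y) (hQ : B.πQ T x = B.πQ T y) :
    ∃ g, B.act T g x = y :=
  (B.existsUnique_act T x y hP hQ).exists

theorem cancel_left {T : C} {x y y' : B.E.obj.obj (op T)} (h : B.πP T x = B.πP T y) (h' : B.πP T x = B.πP T y')
    (e : B.add₂ T x y h = B.add₂ T x y' h') : y = y' := by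
  have eQ : B.πQ T y = B.πQ T y' := by
    have := congrArg (B.πQ T) e
    rwa [B.πQ_add₂, B.πQ_add₂, add_right_inj] at this
  obtain ⟨g, rfl⟩ := exists_act B y y' (h.symm.trans h') eQ
  rw [add₂_act_right B g x y h] at e
  have : g = 0 := act_inj B (x := B.add₂ T x y h) (by rw [B.zero_act]; exact e.symm)
  rw [this, B.zero_act]

/-- An idempotent of the second law: the unit of a fibre. -/
def Idem {T : C} (z : B.E.obj.obj (op T)) : Prop := B.add₂ T z z rfl = z

theorem Idem.πQ {T : C} {z : B.E.obj.obj (op T)} (hz : Idem B z) : B.πQ T z = 0 := by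
  have := congrArg (B.πQ T) hz
  rwa [B.πQ_add₂, add_eq_left] at this

theorem Idem.res {T T' : C} {z : B.E.obj.obj (op T)} (hz : Idem B z) (f : T' ⟶ T) :
    Idem B (B.E.obj.map f.op z) :=
  (B.add₂_map f z z rfl).symm.trans (congrArg (B.E.obj.map f.op) hz)

theorem Idem.unique {T : C} {z z' : B.E.obj.obj (op T)} (hz : Idem B z) (hz' : Idem B z')
    (h : B.πP T z = B.πP T z') : z = z' := by
  obtain ⟨g, rfl⟩ := exists_act B z z' h (by rw [hz.πQ, hz'.πQ])
  have e : B.act T (g + g) z = B.act T g z := by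
    refine Eq.trans ?_ hz'
    rw [B.add₂_act T g z (B.act T g z) (B.πP_act T g z).symm, add₂_act_right B g z z rfl, hz, B.add_act]
  have : g = 0 := add_eq_left.1 (act_inj B e)
  rw [this, B.zero_act]

theorem Idem.add_left {T : C} {z x : B.E.obj.obj (op T)} (hz : Idem B z) (h : B.πP T z = B.πP T x) :
    B.add₂ T z x h = x := by
  refine cancel_left B (x := z) (h.trans (by rw [B.πP_add₂]; exact h.symm)) h ?_
  rw [← B.add₂_assoc T z z x rfl h]
  exact add₂_congr B hz rfl _ _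

theorem exists_idem {T : C} (p : P.obj.obj (op T)) : ∃ z, B.πP T z = p ∧ Idem B z := by
  obtain ⟨R, hR, hloc⟩ := B.locallySurjective T p 0
  obtain ⟨z, hz⟩ := glue B.E hR (fun T' f _ z => B.πP T' z = P.obj.map f.op p ∧ Idem B z)
    (fun T' T'' f _ g x hx => ⟨by rw [B.πP_map, hx.1, map_map_ab], hx.2.res B g⟩)
    (fun T' f _ x y hx hy => hx.2.unique B hy.2 (hx.1.trans hy.1.symm))
    (fun T' f hf => by
      obtain ⟨y, hyP, hyQ⟩ := hloc f hf
      rw [map_zero] at hyQ
      obtain ⟨g, hg⟩ := exists_act B y (B.add₂ T' y y rfl) (B.πP_add₂ T' y y rfl).symm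
        (by rw [B.πQ_add₂, hyQ, add_zero])
      refine ⟨B.act T' (-g) y, (B.πP_act T' _ _).trans hyP, ?_⟩
      show B.add₂ T' _ _ rfl = _
      rw [B.add₂_act T' (-g) y (B.act T' (-g) y) (B.πP_act T' _ y).symm, add₂_act_right B (-g) y y rfl, ← hg,
        ← B.add_act, ← B.add_act, add_assoc, neg_add_cancel, add_zero])
  refine ⟨z, sep_ab P hR fun T' f hf => by rw [← B.πP_map]; exact (hz f hf).1, ?_⟩
  exact sep_type B.E hR fun T' f hf => (B.add₂_map f z z rfl).trans (hz f hf).2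

theorem exists_neg {T : C} (x : B.E.obj.obj (op T)) :
    ∃ (y : B.E.obj.obj (op T)) (h : B.πP T y = B.πP T x), Idem B (B.add₂ T y x h) := by
  obtain ⟨R, hR, hloc⟩ := B.locallySurjective T (B.πP T x) (-B.πQ T x)
  obtain ⟨y, hy⟩ := glue B.E hR (fun T' f _ y => ∃ h : B.πP T' y = B.πP T' (B.E.obj.map f.op x),
      Idem B (B.add₂ T' y (B.E.obj.map f.op x) h))
    (fun T' T'' f _ g y hy => by
      obtain ⟨h, hi⟩ := hy
      have e := map_map_type B.E.obj g f x
      refine ⟨by rw [B.πP_map, h, ← B.πP_map, e], ?_⟩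
      have := hi.res B g
      rw [B.add₂_map g y _ h] at this
      exact (add₂_congr B rfl e _ _) ▸ this)
    (fun T' f _ y y' hy hy' => by
      obtain ⟨h, hi⟩ := hy
      obtain ⟨h', hi'⟩ := hy'
      refine cancel_left B h.symm h'.symm ?_
      rw [B.add₂_comm T' _ y, B.add₂_comm T' _ y']
      exact hi.unique B hi' (by rw [B.πP_add₂, B.πP_add₂, h, h']))
    (fun T' f hf => by
      obtain ⟨y, hyP, hyQ⟩ := hloc f hf
      rw [← B.πP_map] at hyP
      obtain ⟨z, hzP, hzI⟩ := exists_idem B (B.πP T' y)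
      obtain ⟨g, hg⟩ := exists_act B z (B.add₂ T' y _ hyP) (hzP.trans (B.πP_add₂ T' _ _ _).symm)
        (by rw [hzI.πQ, B.πQ_add₂, hyQ, map_neg, B.πQ_map, neg_add_cancel])
      refine ⟨B.act T' (-g) y, (B.πP_act T' _ y).trans hyP, ?_⟩
      rw [B.add₂_act T' (-g) y _ hyP, ← hg, ← B.add_act, neg_add_cancel, B.zero_act]
      exact hzI)
  have hP : B.πP T y = B.πP T x := sep_ab P hR fun T' f hf => by
    rw [← B.πP_map, ← B.πP_map]; exact (hy f hf).1
  exact ⟨y, hP, sep_type B.E hR fun T' f hf => by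
    rw [B.add₂_map f _ _ rfl]
    have e := B.add₂_map f y x hP
    exact (add₂_congr B e e _ rfl).trans ((hy f hf).2.trans e.symm)⟩

/-- The fibre of a biextension over a section of `P`. -/
def Fib {T : C} (p : P.obj.obj (op T)) : Type (u + 1) := { x : B.E.obj.obj (op T) // B.πP T x = p }

variable {B} {T : C} {p : P.obj.obj (op T)}

theorem Fib.ext {x y : Fib B p} (h : x.1 = y.1) : x = y := Subtype.ext h

instance : Zero (Fib B p) := ⟨⟨(exists_idem B p).choose, (exists_idem B p).choose_spec.1⟩⟩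

theorem Fib.idem_zero : Idem B (0 : Fib B p).1 := (exists_idem B p).choose_spec.2

instance : Add (Fib B p) :=
  ⟨fun x y => ⟨B.add₂ T x.1 y.1 (x.2.trans y.2.symm), (B.πP_add₂ T _ _ _).trans x.2⟩⟩

instance : Neg (Fib B p) :=
  ⟨fun x => ⟨(exists_neg B x.1).choose, (exists_neg B x.1).choose_spec.choose.trans x.2⟩⟩

theorem Fib.add_val (x y : Fib B p) : (x + y).1 = B.add₂ T x.1 y.1 (x.2.trans y.2.symm) := rfl

theorem Fib.zero_add' (x : Fib B p) : 0 + x = x :=
  Fib.ext ((Fib.idem_zero (B := B) (p := p)).add_left B _)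

theorem Fib.neg_add' (x : Fib B p) : -x + x = 0 := by
  refine Fib.ext (Idem.unique B (exists_neg B x.1).choose_spec.choose_spec Fib.idem_zero ?_)
  exact (B.πP_add₂ T _ _ _).trans (((exists_neg B x.1).choose_spec.choose.trans x.2).trans (0 : Fib B p).2.symm)

instance : AddCommGroup (Fib B p) where
  add_assoc x y z := Fib.ext (B.add₂_assoc T x.1 y.1 z.1 _ _)
  add_comm x y := Fib.ext (B.add₂_comm T x.1 y.1 _)
  zero_add := Fib.zero_add'
  add_zero x := (Fib.ext (B.add₂_comm T x.1 _ _)).trans (Fib.zero_add' x)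
  neg_add_cancel := Fib.neg_add'
  nsmul := nsmulRec
  zsmul := zsmulRec

/-- The `Q`-coordinate on a fibre. -/
def Fib.q : Fib B p →+ Q.obj.obj (op T) := AddMonoidHom.mk' (fun x => B.πQ T x.1) fun x y => B.πQ_add₂ T x.1 y.1 _

theorem Fib.eq_zero {x : Fib B p} (h : Idem B x.1) : x = 0 := Fib.ext (h.unique B Fib.idem_zero (x.2.trans (0 : Fib B p).2.symm))

/-- The inclusion of `G` in a fibre. -/
def Fib.iota : G.obj.obj (op T) →+ Fib B p :=
  AddMonoidHom.mk' (fun g => ⟨B.act T g (0 : Fib B p).1, (B.πP_act T g _).trans (0 : Fib B p).2⟩) fun g g' => by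
    refine Fib.ext ?_
    show B.act T (g + g') _ = B.add₂ T _ _ _
    exact (B.add_act T g g' _).trans ((congrArg (B.act T g)
      ((congrArg (B.act T g') Fib.idem_zero).symm.trans (add₂_act_right B g' (0 : Fib B p).1 _ rfl).symm)).trans
      (B.add₂_act T g _ _ (B.πP_act T g' _).symm).symm)

theorem Fib.iota_val (g : G.obj.obj (op T)) : (Fib.iota (B := B) (p := p) g).1 = B.act T g (0 : Fib B p).1 := rfl

theorem Fib.q_iota (g : G.obj.obj (op T)) : Fib.q (Fib.iota (B := B) (p := p) g) = 0 :=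
  (B.πQ_act T g _).trans Fib.idem_zero.πQ

theorem Fib.iota_injective : Function.Injective (Fib.iota (B := B) (p := p)) :=
  fun _ _ h => act_inj B (congrArg Subtype.val h)

theorem Fib.exists_iota {x : Fib B p} (h : Fib.q x = 0) : ∃ g, Fib.iota g = x := by
  obtain ⟨g, hg⟩ := exists_act B (0 : Fib B p).1 x.1 ((0 : Fib B p).2.trans x.2.symm) (Fib.idem_zero.πQ.trans h.symm)
  exact ⟨g, Fib.ext hg⟩

theorem Fib.iota_add (g : G.obj.obj (op T)) (x : Fib B p) : (Fib.iota g + x).1 = B.act T g x.1 := by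
  show B.add₂ T _ _ _ = _
  exact (B.add₂_act T g _ x.1 ((0 : Fib B p).2.trans x.2.symm)).trans
    (congrArg (B.act T g) (Fib.idem_zero.add_left B _))

variable (B) in
/-- Restriction between fibres. -/
def Fib.res {T' : C} (f : T' ⟶ T) {p' : P.obj.obj (op T')} (hp : P.obj.map f.op p = p') : Fib B p →+ Fib B p' :=
  AddMonoidHom.mk' (fun x => ⟨B.E.obj.map f.op x.1, by rw [B.πP_map, x.2, hp]⟩)
    fun x y => Fib.ext (B.add₂_map f x.1 y.1 _)

theorem Fib.res_val {T' : C} (f : T' ⟶ T) {p' : P.obj.obj (op T')} (hp : P.obj.map f.op p = p') (x : Fib B p) :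
    (Fib.res B f hp x).1 = B.E.obj.map f.op x.1 := rfl

theorem Fib.res_iota {T' : C} (f : T' ⟶ T) {p' : P.obj.obj (op T')} (hp : P.obj.map f.op p = p')
    (g : G.obj.obj (op T)) : Fib.res B f hp (Fib.iota g) = Fib.iota (G.obj.map f.op g) := by
  refine Fib.ext ?_
  rw [Fib.res_val, Fib.iota_val, Fib.iota_val, B.act_map]
  exact congrArg (B.act T' _) (congrArg Subtype.val (map_zero (Fib.res B f hp)))

end Laws

/-- The biextension with the roles of the two variables exchanged. -/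
def flip (B : Biext J P Q G) : Biext J Q P G where
  E := B.E
  πP := B.πQ
  πQ := B.πP
  πP_map := B.πQ_map
  πQ_map := B.πP_map
  act := B.act
  act_map := B.act_map
  πP_act := B.πQ_act
  πQ_act := B.πP_act
  zero_act := B.zero_act
  add_act := B.add_act
  existsUnique_act T x y hP hQ := B.existsUnique_act T x y hQ hP
  locallySurjective T p q := by
    obtain ⟨R, hR, h⟩ := B.locallySurjective T q p
    exact ⟨R, hR, fun T' f hf => (h f hf).imp fun x hx => ⟨hx.2, hx.1⟩⟩
  add₁ := B.add₂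
  πP_add₁ := B.πQ_add₂
  πQ_add₁ := B.πP_add₂
  add₁_map := B.add₂_map
  add₁_comm := B.add₂_comm
  add₁_assoc := B.add₂_assoc
  add₁_act := B.add₂_act
  add₂ := B.add₁
  πP_add₂ := B.πQ_add₁
  πQ_add₂ := B.πP_add₁
  add₂_map := B.add₁_map
  add₂_comm := B.add₁_comm
  add₂_assoc := B.add₁_assoc
  add₂_act := B.add₁_act
  compat T x y z t hxy hzt hxz hyt := (B.compat T x z y t hxz hyt hxy hzt).symm

end Groth.Agent.BiextExtLib
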