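import Groth.Agent.BiextExtLib.ExtFree
import Groth.Agent.HomRep.DualConst
import Groth.Agent.HomRep.Local
import Groth.Agent.ASp.FppfGlue
import Groth.Prelude.Def_CGrpSh
import Groth.Prelude.Def_TwC

/-!
# Local bases of lattices
-/

set_option autoImplicit false
set_option backward.isDefEq.respectTransparency false
set_option backward.isDefEq.respectTransparency.types false
set_option linter.style.haveILetI false

universe u

open CategoryTheory CategoryTheory.Limits MonoidalCategory CartesianMonoidalCategory MonObj AlgebraicGeometry Opposite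

noncomputable section

namespace Groth.Agent.BiextExtLib

open HomRep DSMapLib

variable {S S' : Scheme.{u}} {f : S' ⟶ S} {X : Over S} [GrpObj X] [IsCommMonObj X] {r : ℕ}
  (e : Red.bc f X ≅ TwC.const S' (Multiplicative (Fin r → ℤ)))

/-- The point of index `m`, over the base downstairs. -/
def ptX (m : Multiplicative (Fin r → ℤ)) : (Over.map f).obj (𝟙_ (Over S')) ⟶ X :=
  ((Over.mapPullbackAdj f).homEquiv _ _).symm (ptH e m)

variable (he : TwC.IsConstGrp (Multiplicative (Fin r → ℤ)) (Red.bc f X) e)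

include he in
omit [IsCommMonObj X] in
theorem ptX_mul (m n : Multiplicative (Fin r → ℤ)) : ptX e (m * n) = ptX e m * ptX e n := by
  refine ((Over.mapPullbackAdj f).homEquiv _ _).injective ?_
  rw [HomRep.homEquiv_mul]
  simp only [ptX, Equiv.apply_symm_apply]
  exact (he m n).symm

theorem empty_mem_J (U : Over S) [IsEmpty U.left] : (⊥ : Sieve U) ∈ QuotSh.J Scheme.fppfPrecoverage S U := by
  have h : Sieve.ofArrows (fun i : PEmpty.{u + 1} => (i.elim : Over S)) (fun i => i.elim) ∈
      QuotSh.J Scheme.fppfPrecoverage S U :=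
    ASp.ofArrows_mem_J _ _ (fun i => i.elim) (fun i => i.elim) fun t => isEmptyElim t
  refine GrothendieckTopology.superset_covering _ ?_ h
  rw [Sieve.ofArrows, Sieve.generate_le_iff]
  rintro _ _ ⟨i⟩
  exact i.elim

/-- The combinations of the basis over `T`. -/
def basisHom {T : Over S} (y : T ⟶ (Over.map f).obj (𝟙_ (Over S'))) :
    (Fin r → ℤ) →+ (CGrpSh.pts Scheme.fppfPrecoverage X).obj.obj (op T) :=
  AddMonoidHom.mk' (fun n => ULift.up (Additive.ofMul (y ≫ ptX e (Multiplicative.ofAdd n)))) fun m n => by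
    refine ULift.ext _ _ ?_
    show Additive.ofMul (y ≫ ptX e (Multiplicative.ofAdd (m + n))) =
      Additive.ofMul ((y ≫ ptX e (Multiplicative.ofAdd m)) * (y ≫ ptX e (Multiplicative.ofAdd n)))
    rw [ofAdd_add, ptX_mul e he, MonObj.comp_mul]

/-- A lattice has a basis over any scheme over a chart. -/
def locBasis {T : Over S} (y : T ⟶ (Over.map f).obj (𝟙_ (Over S'))) :
    LocBasis (CGrpSh.pts Scheme.fppfPrecoverage X) T where
  r := r
  Φ := basisHom e he y
  gen U h q := by
    let U' : Over S' := Over.mk ((h ≫ y).left ≫ (𝟙_ (Over S')).hom)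
    let k : U ≅ (Over.map f).obj U' := overIso f (h ≫ y)
    let q' : U' ⟶ Red.bc f X := (Over.mapPullbackAdj f).homEquiv _ _ (k.inv ≫ q.down.toMul)
    let V : Multiplicative (Fin r → ℤ) → U'.left.Opens := locus e q'
    let c : ∀ m, (Over.map f).obj (Over.mk ((V m).ι ≫ U'.hom)) ⟶ U := fun m =>
      (Over.map f).map (openRes U' (V m)) ≫ k.inv
    have hc : ∀ m, (c m).left = (V m).ι := fun m => Category.comp_id _
    have hcov : Sieve.ofArrows (fun m : ULift.{u} (Multiplicative (Fin r → ℤ)) => _) (fun m => c m.down) ∈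
        QuotSh.J Scheme.fppfPrecoverage S U := by
      refine ASp.ofArrows_mem_J _ _ (fun m => ?_) (fun m => ?_) fun t => ?_
      · rw [hc]; infer_instance
      · rw [hc]; infer_instance
      · obtain ⟨m, hm⟩ := mem_locus e q' t
        refine ⟨⟨m⟩, ⟨t, hm⟩, ?_⟩
        rw [hc]; rfl
    refine ⟨_, hcov, fun W g hg => ?_⟩
    obtain ⟨_, a, _, ⟨⟨m⟩⟩, rfl⟩ := hg
    refine ⟨Multiplicative.toAdd m, ULift.ext _ _ ?_⟩
    show Additive.ofMul ((a ≫ c m) ≫ q.down.toMul) =
      Additive.ofMul (((a ≫ c m) ≫ h) ≫ y ≫ ptX e (Multiplicative.ofAdd (Multiplicative.toAdd m)))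
    refine congrArg Additive.ofMul ?_
    rw [ofAdd_toAdd]
    refine (Category.assoc a (c m) _).trans (Eq.trans ?_ ((Category.assoc (a ≫ c m) h _).trans (Category.assoc a (c m) _)).symm)
    refine congrArg (a ≫ ·) ?_
    have h1 : (Over.map f).map (openRes U' (V m)) ≫ k.inv ≫ q.down.toMul =
        (Over.map f).map (toUnit (Over.mk ((V m).ι ≫ U'.hom))) ≫ ptX e m := by
      refine ((Over.mapPullbackAdj f).homEquiv _ _).injective ?_
      rw [Adjunction.homEquiv_naturality_left, Adjunction.homEquiv_naturality_left, ptX, Equiv.apply_symm_apply]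
      exact comp_eq_ptH e q' m (V m) le_rfl
    have h2 : c m ≫ h ≫ y = (Over.map f).map (toUnit (Over.mk ((V m).ι ≫ U'.hom))) := by
      refine Over.OverMorphism.ext ?_
      show (c m).left ≫ (h ≫ y).left = (V m).ι ≫ (h ≫ y).left ≫ 𝟙 S'
      rw [hc]
      exact congrArg ((V m).ι ≫ ·) (Category.comp_id _).symm
    show c m ≫ q.down.toMul = _
    rw [Category.assoc, h1, ← h2]
    simp only [Category.assoc]
  uniq U h n n' hn := by
    rcases isEmpty_or_nonempty U.left with hU | ⟨⟨t⟩⟩
    · exact Or.inr (empty_mem_J U)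
    · left
      let U' : Over S' := Over.mk ((h ≫ y).left ≫ (𝟙_ (Over S')).hom)
      let k : U ≅ (Over.map f).obj U' := overIso f (h ≫ y)
      have h2 : k.inv ≫ h ≫ y = (Over.map f).map (toUnit U') := by
        refine Over.OverMorphism.ext ?_
        show 𝟙 _ ≫ (h ≫ y).left = (h ≫ y).left ≫ 𝟙 S'
        simp
      have h3 : h ≫ y ≫ ptX e (Multiplicative.ofAdd n) = h ≫ y ≫ ptX e (Multiplicative.ofAdd n') :=
        congrArg (fun x : ULift.{u + 1} (Additive (U ⟶ X)) => x.down.toMul) hn
      have h4 : toUnit U' ≫ ptH e (Multiplicative.ofAdd n) = toUnit U' ≫ ptH e (Multiplicative.ofAdd n') := by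
        have := congrArg (fun z => (Over.mapPullbackAdj f).homEquiv _ _ (k.inv ≫ z)) h3
        simp only [← Category.assoc _ y, ← Category.assoc k.inv] at this
        rw [show (k.inv ≫ h) ≫ y = (Over.map f).map (toUnit U') by rw [Category.assoc, h2],
          Adjunction.homEquiv_naturality_left, Adjunction.homEquiv_naturality_left] at this
        simpa only [ptX, Equiv.apply_symm_apply] using this
      let G : (U' ⟶ Red.bc f X) → (TwC.const S' (Multiplicative (Fin r → ℤ))).left := fun z => (z ≫ e.hom).left t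
      have h5 : ∀ m, G (toUnit U' ≫ ptH e m) ∈
          (Sigma.ι (fun _ : Multiplicative (Fin r → ℤ) => S') m).opensRange := fun m => by
        refine ⟨U'.hom t, ?_⟩
        show _ = ((toUnit U' ≫ TwC.pt S' _ m ≫ e.inv) ≫ e.hom).left t
        rw [Category.assoc, Category.assoc, e.inv_hom_id, Category.comp_id]
        rfl
      by_contra hne
      have h6 := h5 (Multiplicative.ofAdd n)
      rw [h4] at h6
      exact (disjoint_opensRange_sigmaι (fun _ : Multiplicative (Fin r → ℤ) => S') _ _
        (fun hh => hne (Multiplicative.ofAdd.injective hh))).le_bot ⟨h6, h5 _⟩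

theorem exists_locBasis {S : Scheme.{u}} (X : Over S) [GrpObj X] [IsCommMonObj X]
    (hX : TwC.Locally S TwC.Topology.etale (fun S' f =>
      ∃ (r : ℕ) (e : Red.bc f X ≅ TwC.const S' (Multiplicative (Fin r → ℤ))),
        TwC.IsConstGrp (Multiplicative (Fin r → ℤ)) (Red.bc f X) e)) (T : Over S) :
    ∃ R ∈ QuotSh.J Scheme.fppfPrecoverage S T, ∀ ⦃T' : Over S⦄ (g : T' ⟶ T), R g →
      Nonempty (LocBasis (CGrpSh.pts Scheme.fppfPrecoverage X) T') := by
  choose S' f hf hmem r e he using hX
  let U : S → Over S := fun s => Over.mk (pullback.fst T.hom (f s) ≫ T.hom)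
  let c : ∀ s, U s ⟶ T := fun s => Over.homMk (pullback.fst T.hom (f s)) rfl
  have hcov : Sieve.ofArrows U c ∈ QuotSh.J Scheme.fppfPrecoverage S T := by
    refine ASp.ofArrows_mem_J _ _ (fun s => ?_) (fun s => ?_) fun t => ?_
    · exact inferInstanceAs (Flat (pullback.fst T.hom (f s)))
    · exact inferInstanceAs (LocallyOfFinitePresentation (pullback.fst T.hom (f s)))
    · obtain ⟨s', hs'⟩ := hmem (T.hom t)
      obtain ⟨z, hz, -⟩ := Scheme.Pullback.exists_preimage_pullback t s' hs'.symm
      exact ⟨T.hom t, z, hz⟩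
  refine ⟨_, hcov, fun T' g hg => ?_⟩
  obtain ⟨_, a, _, ⟨s⟩, rfl⟩ := hg
  let y : U s ⟶ (Over.map (f s)).obj (𝟙_ (Over (S' s))) := Over.homMk (pullback.snd T.hom (f s)) (by
    show pullback.snd T.hom (f s) ≫ 𝟙 _ ≫ f s = pullback.fst T.hom (f s) ≫ T.hom
    rw [Category.id_comp, pullback.condition])
  exact ⟨locBasis (e s) (he s) (a ≫ y)⟩

end Groth.Agent.BiextExtLib
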