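import Groth.Agent.BiextExtLib.Fibre
import Groth.Prelude.Def_CGrpSh2

/-!
# Morphisms between restrictions of sheaves, on sections
-/

set_option autoImplicit false

universe u

open CategoryTheory Opposite

noncomputable section

namespace Groth.Agent.BiextExtLib

variable {C : Type (u + 1)} [Category.{u} C] {J : GrothendieckTopology C}
  {Q M N : Sheaf J AddCommGrpCat.{u + 1}}

/-- The components of a morphism of restricted sheaves, indexed by morphisms to the base. -/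
def appH {T : C} (φ : Q.over T ⟶ M.over T) {T' : C} (h : T' ⟶ T) : Q.obj.obj (op T') →+ M.obj.obj (op T') :=
  (φ.hom.app (op (Over.mk h))).hom

theorem appH_add {T : C} (φ ψ : Q.over T ⟶ M.over T) {T' : C} (h : T' ⟶ T) (q : Q.obj.obj (op T')) :
    appH (φ + ψ) h q = appH φ h q + appH ψ h q := rfl

theorem appH_zero {T : C} {T' : C} (h : T' ⟶ T) (q : Q.obj.obj (op T')) :
    appH (0 : Q.over T ⟶ M.over T) h q = 0 := rfl

theorem appH_map {T : C} (φ : Q.over T ⟶ M.over T) {T' T'' : C} (g : T'' ⟶ T') (h : T' ⟶ T)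
    (q : Q.obj.obj (op T')) : appH φ (g ≫ h) (Q.obj.map g.op q) = M.obj.map g.op (appH φ h q) :=
  ConcreteCategory.congr_hom (φ.hom.naturality (Over.homMk g : Over.mk (g ≫ h) ⟶ Over.mk h).op) q

theorem appH_ext {T : C} {φ ψ : Q.over T ⟶ M.over T}
    (e : ∀ ⦃T' : C⦄ (h : T' ⟶ T) (q : Q.obj.obj (op T')), appH φ h q = appH ψ h q) : φ = ψ :=
  Sheaf.hom_ext (NatTrans.ext (funext fun U => AddCommGrpCat.ext fun q => e (unop U).hom q))

theorem appH_res {T T₁ : C} (φ : (HomSh.homSh J Q M).obj.obj (op T)) (f : T₁ ⟶ T) {T' : C} (h : T' ⟶ T₁)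
    (q : Q.obj.obj (op T')) : appH ((HomSh.homSh J Q M).obj.map f.op φ) h q = appH φ (h ≫ f) q := rfl

theorem appH_homShMap {T : C} (β : M ⟶ N) (φ : Q.over T ⟶ M.over T) {T' : C} (h : T' ⟶ T)
    (q : Q.obj.obj (op T')) :
    appH ((HomSh.homShMap J (𝟙 Q) β).hom.app (op T) φ) h q = β.hom.app (op T') (appH φ h q) := rfl

/-- A natural family of additive maps is a morphism of restricted sheaves. -/
def mkHom {T : C} (ψ : ∀ ⦃T' : C⦄ (_h : T' ⟶ T), Q.obj.obj (op T') →+ M.obj.obj (op T'))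
    (hψ : ∀ ⦃T' T'' : C⦄ (g : T'' ⟶ T') (h : T' ⟶ T) (q : Q.obj.obj (op T')),
      ψ (g ≫ h) (Q.obj.map g.op q) = M.obj.map g.op (ψ h q)) : Q.over T ⟶ M.over T :=
  ⟨{ app := fun U => AddCommGrpCat.ofHom (ψ (unop U).hom)
     naturality := fun U U' k => AddCommGrpCat.ext fun q => by
       have e := hψ k.unop.left (unop U).hom q
       rw [show k.unop.left ≫ (unop U).hom = (unop U').hom from Over.w k.unop] at e
       exact e }⟩

theorem appH_mkHom {T : C} (ψ : ∀ ⦃T' : C⦄ (_h : T' ⟶ T), Q.obj.obj (op T') →+ M.obj.obj (op T'))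
    (hψ : ∀ ⦃T' T'' : C⦄ (g : T'' ⟶ T') (h : T' ⟶ T) (q : Q.obj.obj (op T')),
      ψ (g ≫ h) (Q.obj.map g.op q) = M.obj.map g.op (ψ h q)) {T' : C} (h : T' ⟶ T) (q : Q.obj.obj (op T')) :
    appH (mkHom ψ hψ) h q = ψ h q := rfl

variable (J Q M) in
/-- The graph of a locally defined morphism of restricted sheaves. -/
structure Graph (T : C) where
  /-- the relation -/
  Rel : ∀ ⦃T' : C⦄, (T' ⟶ T) → Q.obj.obj (op T') → M.obj.obj (op T') → Prop
  map : ∀ ⦃T' T'' : C⦄ (g : T'' ⟶ T') (h : T' ⟶ T) (q m), Rel h q m → Rel (g ≫ h) (Q.obj.map g.op q) (M.obj.map g.op m)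
  uniq : ∀ ⦃T' : C⦄ (h : T' ⟶ T) (q m m'), Rel h q m → Rel h q m' → m = m'
  add : ∀ ⦃T' : C⦄ (h : T' ⟶ T) (q q' m m'), Rel h q m → Rel h q' m' → Rel h (q + q') (m + m')
  total : ∀ ⦃T' : C⦄ (h : T' ⟶ T) (q : Q.obj.obj (op T')), ∃ R ∈ J T', ∀ ⦃T'' : C⦄ (g : T'' ⟶ T'), R g →
    ∃ m, Rel (g ≫ h) (Q.obj.map g.op q) m

theorem Graph.exists_val {T : C} (Γ : Graph J Q M T) {T' : C} (h : T' ⟶ T) (q : Q.obj.obj (op T')) :
    ∃ m : M.obj.obj (op T'), ∀ ⦃T'' : C⦄ (g : T'' ⟶ T') (m' : M.obj.obj (op T'')),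
      Γ.Rel (g ≫ h) (Q.obj.map g.op q) m' → M.obj.map g.op m = m' := by
  obtain ⟨R, hR, htot⟩ := Γ.total h q
  obtain ⟨m, hm⟩ := glue (Biext.uSh J M) hR (fun T'' g _ m => Γ.Rel (g ≫ h) (Q.obj.map g.op q) m)
    (fun T'' T₃ g _ k x hx => by
      have := Γ.map k (g ≫ h) _ x hx
      rw [map_map_ab, ← Category.assoc] at this
      exact this)
    (fun T'' g _ x y hx hy => Γ.uniq _ _ x y hx hy) htot
  refine ⟨m, fun T'' g m' hm' => sep_ab M (J.pullback_stable g hR) fun T₃ k hk => ?_⟩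
  refine Γ.uniq ((k ≫ g) ≫ h) (Q.obj.map (k ≫ g).op q) _ _ ?_ ?_
  · exact (map_map_ab M.obj k g m).symm ▸ hm (k ≫ g) hk
  · have := Γ.map k (g ≫ h) _ _ hm'
    rw [map_map_ab, ← Category.assoc] at this
    exact this

theorem Graph.exists_hom {T : C} (Γ : Graph J Q M T) :
    ∃ φ : Q.over T ⟶ M.over T, ∀ ⦃T' : C⦄ (h : T' ⟶ T) (q : Q.obj.obj (op T')) (m : M.obj.obj (op T')),
      Γ.Rel h q m → appH φ h q = m := by
  choose v hv using fun (T' : C) (h : T' ⟶ T) (q : Q.obj.obj (op T')) => Γ.exists_val h q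
  have hv' : ∀ ⦃T' : C⦄ (h : T' ⟶ T) q m, Γ.Rel h q m → v T' h q = m := fun T' h q m hm => by
    have := hv T' h q (𝟙 T') m (by rw [Category.id_comp, map_id_ab]; exact hm)
    rwa [map_id_ab] at this
  have hadd : ∀ ⦃T' : C⦄ (h : T' ⟶ T) (q q' : Q.obj.obj (op T')), v T' h (q + q') = v T' h q + v T' h q' := by
    intro T' h q q'
    obtain ⟨R, hR, t⟩ := Γ.total h q
    obtain ⟨R', hR', t'⟩ := Γ.total h q'
    refine sep_ab M (J.intersection_covering hR hR') fun T'' g hg => ?_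
    obtain ⟨m, hm⟩ := t g hg.1
    obtain ⟨m', hm'⟩ := t' g hg.2
    rw [map_add, hv T' h q g m hm, hv T' h q' g m' hm']
    exact hv T' h (q + q') g _ (by rw [map_add]; exact Γ.add _ _ _ _ _ hm hm')
  refine ⟨mkHom (fun T' h => AddMonoidHom.mk' (v T' h) (hadd h)) fun T' T'' g h q => ?_, fun T' h q m hm => hv' h q m hm⟩
  obtain ⟨R, hR, t⟩ := Γ.total h q
  refine sep_ab M (J.pullback_stable g hR) fun T₃ k hk => ?_
  obtain ⟨m, hm⟩ := t (k ≫ g) hk
  show M.obj.map k.op (v T'' (g ≫ h) (Q.obj.map g.op q)) = M.obj.map k.op (M.obj.map g.op (v T' h q))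
  rw [map_map_ab, hv T' h q (k ≫ g) m hm]
  exact hv T'' (g ≫ h) _ k m (by rw [map_map_ab, ← Category.assoc]; exact hm)

/-- Morphisms of restricted sheaves agreeing with one graph are equal. -/
theorem Graph.ext {T : C} (Γ : Graph J Q M T) {φ ψ : Q.over T ⟶ N.over T}
    (e : ∀ ⦃T' : C⦄ (h : T' ⟶ T) (q : Q.obj.obj (op T')) (m : M.obj.obj (op T')),
      Γ.Rel h q m → appH φ h q = appH ψ h q) : φ = ψ := by
  refine appH_ext fun T' h q => ?_
  obtain ⟨R, hR, t⟩ := Γ.total h q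
  refine sep_ab N hR fun T'' g hg => ?_
  obtain ⟨m, hm⟩ := t g hg
  rw [← appH_map, ← appH_map]
  exact e _ _ m hm

end Groth.Agent.BiextExtLib
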