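import Groth.Agent.BiextExtLib.Datum
import Mathlib.Algebra.Homology.DerivedCategory.Ext.ExactSequences
import Mathlib.Algebra.Homology.ShortComplex.ExactFunctor
import Mathlib.CategoryTheory.Sites.EpiMono
import Mathlib.Algebra.Homology.ShortComplex.FunctorEquivalence

/-!
# A biextension with local splittings is trivial when the extensions by the internal Hom vanish
-/

set_option autoImplicit false
set_option backward.isDefEq.respectTransparency false

universe w u

open CategoryTheory Opposite Limits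

noncomputable section

namespace Groth.Agent.BiextExtLib

variable {C : Type (u + 1)} [Category.{u} C] {J : GrothendieckTopology C}
  {P Q G : Sheaf J AddCommGrpCat.{u + 1}} (B : Biext J P Q G)

/-- Two sections over `q` and `q'` combined by the second law. -/
def comb {T : C} {q q' : Q.obj.obj (op T)} (α : Fib (flip B) q) (β : Fib (flip B) q')
    (e : B.πP T α.1 = B.πP T β.1) : Fib (flip B) (q + q') :=
  ⟨B.add₂ T α.1 β.1 e, (B.πQ_add₂ T α.1 β.1 e).trans (congrArg₂ (· + ·) α.2 β.2)⟩

theorem πP_add_fib {T : C} {q : Q.obj.obj (op T)} (α α' : Fib (flip B) q) :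
    B.πP T (α + α').1 = B.πP T α.1 + B.πP T α'.1 := B.πP_add₁ T α.1 α'.1 _

theorem comb_add {T : C} {q q' : Q.obj.obj (op T)} (α α' : Fib (flip B) q) (β β' : Fib (flip B) q')
    (e : B.πP T α.1 = B.πP T β.1) (e' : B.πP T α'.1 = B.πP T β'.1) :
    comb B α β e + comb B α' β' e' = comb B (α + α') (β + β') (by rw [πP_add_fib, πP_add_fib, e, e']) :=
  Fib.ext (B.compat T α.1 β.1 α'.1 β'.1 e e' (α.2.trans α'.2.symm) (β.2.trans β'.2.symm))

theorem comb_congr {T : C} {q q' : Q.obj.obj (op T)} {α α' : Fib (flip B) q} {β β' : Fib (flip B) q'}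
    (hα : α = α') (hβ : β = β') (e : B.πP T α.1 = B.πP T β.1) (e' : B.πP T α'.1 = B.πP T β'.1) :
    comb B α β e = comb B α' β' e' := by
  subst hα hβ; rfl

theorem πP_zero_fib {T : C} (q : Q.obj.obj (op T)) : B.πP T (0 : Fib (flip B) q).1 = 0 :=
  map_zero (Fib.q (B := flip B) (p := q))

theorem comb_zero {T : C} (q q' : Q.obj.obj (op T)) :
    comb B (0 : Fib (flip B) q) (0 : Fib (flip B) q') (by rw [πP_zero_fib, πP_zero_fib]) = 0 := by
  have h := comb_add B (0 : Fib (flip B) q) 0 (0 : Fib (flip B) q') 0 (by rw [πP_zero_fib, πP_zero_fib])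
    (by rw [πP_zero_fib, πP_zero_fib])
  refine add_eq_left.1 (h.trans (comb_congr B (add_zero _) (add_zero _) _ _))

/-- Families of sections indexed by the sections of `Q` on objects over `T`. -/
abbrev Fam (T : C) : Type (u + 1) := ∀ (T' : C), (T' ⟶ T) → ∀ q : Q.obj.obj (op T'), Fib (flip B) q

/-- Being a linear splitting over `x.1`. -/
structure IsLin {T : C} (x : P.obj.obj (op T) × Fam B T) : Prop where
  πP : ∀ (T' : C) (h : T' ⟶ T) (q : Q.obj.obj (op T')), B.πP T' (x.2 T' h q).1 = P.obj.map h.op x.1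
  map : ∀ (T' T'' : C) (g : T'' ⟶ T') (h : T' ⟶ T) (q : Q.obj.obj (op T')),
    Fib.res (flip B) g rfl (x.2 T' h q) = x.2 T'' (g ≫ h) (Q.obj.map g.op q)
  add : ∀ (T' : C) (h : T' ⟶ T) (q q' : Q.obj.obj (op T')) (e : B.πP T' (x.2 T' h q).1 = B.πP T' (x.2 T' h q').1),
    x.2 T' h (q + q') = comb B (x.2 T' h q) (x.2 T' h q') e

/-- The group of linear splittings over sections of `P`. -/
def splitGroup (T : C) : AddSubgroup (P.obj.obj (op T) × Fam B T) where
  carrier := {x | IsLin B x}
  zero_mem' :=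
    { πP := fun T' h q => (πP_zero_fib B q).trans (map_zero _).symm
      map := fun T' T'' g h q => map_zero _
      add := fun T' h q q' e => (comb_zero B q q').symm }
  add_mem' {x y} hx hy :=
    { πP := fun T' h q => (πP_add_fib B _ _).trans ((congrArg₂ (· + ·) (hx.πP T' h q) (hy.πP T' h q)).trans
        (map_add _ _ _).symm)
      map := fun T' T'' g h q => (map_add _ _ _).trans (congrArg₂ (· + ·) (hx.map T' T'' g h q) (hy.map T' T'' g h q))
      add := fun T' h q q' e => by
        have ex := (hx.πP T' h q).trans (hx.πP T' h q').symm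
        have ey := (hy.πP T' h q).trans (hy.πP T' h q').symm
        exact (congrArg₂ (· + ·) (hx.add T' h q q' ex) (hy.add T' h q q' ey)).trans (comb_add B _ _ _ _ ex ey) }
  neg_mem' {x} hx :=
    { πP := fun T' h q => (map_neg (Fib.q (B := flip B) (p := q)) _).trans
        ((congrArg Neg.neg (hx.πP T' h q)).trans (map_neg _ _).symm)
      map := fun T' T'' g h q => (map_neg _ _).trans (congrArg Neg.neg (hx.map T' T'' g h q))
      add := fun T' h q q' e => by
        have ex := (hx.πP T' h q).trans (hx.πP T' h q').symm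
        refine (eq_neg_of_add_eq_zero_left ?_).symm
        rw [hx.add T' h q q' ex]
        refine (comb_add B _ _ _ _ e ex).trans ((comb_congr B ?_ ?_ _ ?_).trans (comb_zero B q q'))
        · exact neg_add_cancel _
        · exact neg_add_cancel _
        · rw [πP_zero_fib, πP_zero_fib] }

/-- Restriction of families. -/
def famRes {T T₁ : C} (f : T₁ ⟶ T) : P.obj.obj (op T) × Fam B T →+ P.obj.obj (op T₁) × Fam B T₁ :=
  AddMonoidHom.mk' (fun x => (P.obj.map f.op x.1, fun T' h q => x.2 T' (h ≫ f) q))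
    fun x y => Prod.ext (map_add _ _ _) rfl

theorem famRes_mem {T T₁ : C} (f : T₁ ⟶ T) {x : P.obj.obj (op T) × Fam B T} (hx : x ∈ splitGroup B T) :
    famRes B f x ∈ splitGroup B T₁ :=
  { πP := fun T' h q => (hx.πP T' (h ≫ f) q).trans (map_map_ab P.obj h f x.1).symm
    map := fun T' T'' g h q => (hx.map T' T'' g (h ≫ f) q).trans
      (congrArg (fun k => x.2 T'' k _) (Category.assoc g h f).symm)
    add := fun T' h q q' e => hx.add T' (h ≫ f) q q' e }

/-- The presheaf of linear splittings. -/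
def splitPre : Cᵒᵖ ⥤ AddCommGrpCat.{u + 1} where
  obj U := AddCommGrpCat.of (splitGroup B U.unop)
  map {U V} k := AddCommGrpCat.ofHom (((famRes B k.unop).comp (splitGroup B U.unop).subtype).codRestrict
    (splitGroup B V.unop) fun x => famRes_mem B k.unop x.2)
  map_id U := AddCommGrpCat.ext fun x => Subtype.ext (Prod.ext (map_id_ab P.obj x.1.1)
    (funext fun T' => funext fun h => funext fun q => congrArg (fun k => x.1.2 T' k q) (Category.comp_id h)))
  map_comp {U V W} k l := AddCommGrpCat.ext fun x => Subtype.ext (Prod.ext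
    (map_map_ab P.obj l.unop k.unop x.1.1).symm
    (funext fun T' => funext fun h => funext fun q =>
      congrArg (fun k => x.1.2 T' k q) (Category.assoc h l.unop k.unop).symm))

/-- The projection of the linear splittings. -/
def splitPr : splitPre B ⟶ P.obj where
  app U := AddCommGrpCat.ofHom ((AddMonoidHom.fst _ _).comp (splitGroup B U.unop).subtype)
  naturality U V k := rfl

/-- The splitting family attached to a morphism to `G`. -/
def homFam {T : C} : (Q.over T ⟶ G.over T) →+ P.obj.obj (op T) × Fam B T :=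
  AddMonoidHom.mk' (fun φ => (0, fun T' h q => Fib.iota (appH φ h q)))
    fun φ ψ => Prod.ext (add_zero (0 : P.obj.obj (op T))).symm
      (funext fun T' => funext fun h => funext fun q =>
        (congrArg Fib.iota (appH_add φ ψ h q)).trans (map_add _ _ _))

theorem homFam_mem {T : C} (φ : Q.over T ⟶ G.over T) : homFam B φ ∈ splitGroup B T :=
  { πP := fun T' h q => (Fib.q_iota (B := flip B) (p := q) (appH φ h q)).trans (map_zero (P.obj.map h.op).hom).symm
    map := fun T' T'' g h q => (Fib.res_iota g rfl _).trans (congrArg Fib.iota (appH_map φ g h q).symm)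
    add := fun T' h q q' e => Fib.ext (by
      show B.act T' (appH φ h (q + q')) (0 : Fib (flip B) (q + q')).1 =
        B.add₂ T' (B.act T' (appH φ h q) (0 : Fib (flip B) q).1) (B.act T' (appH φ h q') (0 : Fib (flip B) q').1) _
      have e0 : B.πP T' (0 : Fib (flip B) q).1 = B.πP T' (0 : Fib (flip B) q').1 := by rw [πP_zero_fib, πP_zero_fib]
      rw [B.add₂_act T' _ _ _ (e0.trans (B.πP_act T' _ _).symm), add₂_act_right B _ _ _ e0, ← B.add_act, map_add]
      exact congrArg (B.act T' _) (congrArg Subtype.val (comb_zero B q q')).symm) }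

/-- The inclusion of the internal Hom in the linear splittings. -/
def homIncl : (HomSh.homSh J Q G).obj ⟶ splitPre B where
  app U := AddCommGrpCat.ofHom ((homFam B).codRestrict (splitGroup B U.unop) fun φ => homFam_mem B φ)
  naturality U V k := AddCommGrpCat.ext fun φ => Subtype.ext (Prod.ext (map_zero _).symm rfl)

theorem homIncl_injective (T : C) : Function.Injective ((homIncl B).app (op T)) := by
  intro φ ψ e
  refine appH_ext fun T' h q => Fib.iota_injective (B := flip B) (p := q) ?_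
  exact congrFun (congrFun (congrFun (congrArg (fun x => x.1.2) e) T') h) q

theorem exists_homIncl {T : C} (x : (splitPre B).obj (op T)) (hx : x.1.1 = 0) :
    ∃ φ, (homIncl B).app (op T) φ = x := by
  have h0 : ∀ (T' : C) (h : T' ⟶ T) (q : Q.obj.obj (op T')), Fib.q (x.1.2 T' h q) = 0 := fun T' h q =>
    (x.2.πP T' h q).trans (by rw [hx, map_zero])
  choose v hv using fun (T' : C) (h : T' ⟶ T) (q : Q.obj.obj (op T')) => Fib.exists_iota (h0 T' h q)
  have hadd : ∀ (T' : C) (h : T' ⟶ T) (q q' : Q.obj.obj (op T')), v T' h (q + q') = v T' h q + v T' h q' := by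
    intro T' h q q'
    refine Fib.iota_injective (B := flip B) (p := q + q') ?_
    rw [hv, x.2.add T' h q q' ((h0 T' h q).trans (h0 T' h q').symm)]
    refine Fib.ext ?_
    have e0 : B.πP T' (0 : Fib (flip B) q).1 = B.πP T' (0 : Fib (flip B) q').1 := by rw [πP_zero_fib, πP_zero_fib]
    show B.add₂ T' (x.1.2 T' h q).1 (x.1.2 T' h q').1 _ = B.act T' _ (0 : Fib (flip B) (q + q')).1
    rw [add₂_congr B (congrArg Subtype.val (hv T' h q)).symm (congrArg Subtype.val (hv T' h q')).symm _
      ((B.πP_act T' _ _).trans (e0.trans (B.πP_act T' _ _).symm))]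
    show B.add₂ T' (B.act T' _ (0 : Fib (flip B) q).1) (B.act T' _ (0 : Fib (flip B) q').1) _ = _
    rw [B.add₂_act T' _ _ _ (e0.trans (B.πP_act T' _ _).symm), add₂_act_right B _ _ _ e0, ← B.add_act]
    exact congrArg (B.act T' _) (congrArg Subtype.val (comb_zero B q q'))
  refine ⟨mkHom (fun T' h => AddMonoidHom.mk' (v T' h) (hadd T' h)) fun T' T'' g h q => ?_, ?_⟩
  · refine Fib.iota_injective (B := flip B) (p := Q.obj.map g.op q) ?_
    show Fib.iota (v T'' (g ≫ h) (Q.obj.map g.op q)) = Fib.iota (G.obj.map g.op (v T' h q))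
    rw [hv, ← x.2.map T' T'' g h q, ← hv T' h q]
    exact Fib.res_iota g rfl _
  · exact Subtype.ext (Prod.ext hx.symm (funext fun T' => funext fun h => funext fun q => hv T' h q))

/-- The sequence of presheaves. -/
def splitSeq : ShortComplex (Cᵒᵖ ⥤ AddCommGrpCat.{u + 1}) :=
  ShortComplex.mk (homIncl B) (splitPr B) (NatTrans.ext (funext fun U => AddCommGrpCat.ext fun φ => rfl))

theorem splitSeq_exact : (splitSeq B).Exact := by
  rw [ShortComplex.exact_iff_isZero_homology, Functor.isZero_iff]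
  intro U
  refine IsZero.of_iso ?_ ((splitSeq B).mapHomologyIso ((evaluation _ _).obj U)).symm
  rw [← ShortComplex.exact_iff_isZero_homology, ShortComplex.ab_exact_iff]
  exact fun x hx => exists_homIncl B x hx

theorem splitPr_locallySurjective
    (hloc : ∀ (T : C) (p : P.obj.obj (op T)), ∃ R ∈ J T, ∀ ⦃T' : C⦄ (f : T' ⟶ T), R f →
      Nonempty (Split B (P.obj.map f.op p))) : Presheaf.IsLocallySurjective J (splitPr B) := by
  refine ⟨fun {T} p => ?_⟩
  obtain ⟨R, hR, h⟩ := hloc T p
  refine J.superset_covering ?_ hR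
  intro T' f hf
  obtain ⟨σ⟩ := h f hf
  exact ⟨⟨(P.obj.map f.op p, fun T₁ k q => ⟨σ.s k q, σ.πQ_s k q⟩),
    { πP := fun T₁ k q => σ.πP_s k q
      map := fun T₁ T₂ g k q => Fib.ext (σ.s_map g k q)
      add := fun T₁ k q q' e => Fib.ext (σ.s_add k q q') }⟩, rfl⟩

/-- A retraction of the presheaf of linear splittings onto the internal Hom. -/
theorem exists_retraction [HasSheafify J AddCommGrpCat.{u + 1}] [HasExt.{w} (Sheaf J AddCommGrpCat.{u + 1})]
    (h₁ : ∀ e : Abelian.Ext P (HomSh.homSh J Q G) 1, e = 0)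
    (hloc : ∀ (T : C) (p : P.obj.obj (op T)), ∃ R ∈ J T, ∀ ⦃T' : C⦄ (f : T' ⟶ T), R f →
      Nonempty (Split B (P.obj.map f.op p))) :
    ∃ r : splitPre B ⟶ (HomSh.homSh J Q G).obj, homIncl B ≫ r = 𝟙 _ := by
  let a := presheafToSheaf J AddCommGrpCat.{u + 1}
  let adj := sheafificationAdjunction J AddCommGrpCat.{u + 1}
  haveI : Mono (homIncl B) := by
    haveI : ∀ U, Mono ((homIncl B).app U) := fun U =>
      (AddCommGrpCat.mono_iff_injective _).2 (homIncl_injective B U.unop)
    exact NatTrans.mono_of_mono_app _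
  haveI := splitPr_locallySurjective B hloc
  haveI : Sheaf.IsLocallySurjective (a.map (splitPr B)) :=
    (Presheaf.isLocallySurjective_presheafToSheaf_map_iff J (splitPr B)).2 inferInstance
  haveI : a.Additive := Functor.additive_of_preserves_binary_products _
  have hS : ((splitSeq B).map a).ShortExact :=
    { exact := (splitSeq_exact B).map a
      mono_f := inferInstanceAs (Mono (a.map (homIncl B)))
      epi_g := inferInstanceAs (Epi (a.map (splitPr B))) }
  let cH : a.obj (HomSh.homSh J Q G).obj ⟶ HomSh.homSh J Q G :=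
    (sheafificationAdjunction J AddCommGrpCat.{u + 1}).counit.app (HomSh.homSh J Q G)
  let cP : a.obj P.obj ⟶ P := (sheafificationAdjunction J AddCommGrpCat.{u + 1}).counit.app P
  haveI : IsIso cH := inferInstanceAs (IsIso ((sheafificationAdjunction J AddCommGrpCat.{u + 1}).counit.app _))
  haveI : IsIso cP := inferInstanceAs (IsIso ((sheafificationAdjunction J AddCommGrpCat.{u + 1}).counit.app _))
  have he : hS.extClass = 0 := by
    have h := h₁ (((Abelian.Ext.mk₀ (inv cP)).comp hS.extClass (zero_add 1)).comp (Abelian.Ext.mk₀ cH) (add_zero 1))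
    have h' := congrArg (fun e => ((Abelian.Ext.mk₀ cP).comp e (zero_add 1)).comp (Abelian.Ext.mk₀ (inv cH)) (add_zero 1)) h
    simpa [Abelian.Ext.comp_assoc_of_second_deg_zero, Abelian.Ext.comp_assoc_of_third_deg_zero] using h'
  obtain ⟨x₂, hx₂⟩ := Abelian.Ext.contravariant_sequence_exact₁ hS _
    (Abelian.Ext.mk₀ (𝟙 ((splitSeq B).map a).X₁)) (add_zero 1) (by rw [he, Abelian.Ext.zero_comp])
  obtain ⟨ρ, rfl⟩ := (Abelian.Ext.mk₀_bijective _ _).2 x₂
  rw [Abelian.Ext.mk₀_comp_mk₀] at hx₂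
  have hρ : a.map (homIncl B) ≫ ρ = 𝟙 _ := (Abelian.Ext.mk₀_bijective _ _).1 hx₂
  refine ⟨adj.homEquiv _ _ (ρ ≫ cH), ?_⟩
  refine (adj.homEquiv_naturality_left (homIncl B) (ρ ≫ cH)).symm.trans ?_
  refine (congrArg (adj.homEquiv _ _) ((Category.assoc _ _ _).symm.trans
    ((congrArg (· ≫ cH) hρ).trans (Category.id_comp _)))).trans ?_
  exact (adj.homEquiv_unit _ _ _).trans (adj.right_triangle_components _)

theorem isTrivial_of_local_split [HasSheafify J AddCommGrpCat.{u + 1}] [HasExt.{w} (Sheaf J AddCommGrpCat.{u + 1})]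
    (h₁ : ∀ e : Abelian.Ext P (HomSh.homSh J Q G) 1, e = 0)
    (hloc : ∀ (T : C) (p : P.obj.obj (op T)), ∃ R ∈ J T, ∀ ⦃T' : C⦄ (f : T' ⟶ T), R f →
      Nonempty (Split B (P.obj.map f.op p))) : Biext.IsTrivial J B := by
  obtain ⟨r, hr⟩ := exists_retraction B h₁ hloc
  let X := splitPre B
  let N : ∀ {T : C}, P.obj.obj (op T) → X.obj (op T) → Prop := fun p x => x.1.1 = p ∧ r.app _ x = 0
  have huniq : ∀ {T : C} (p : P.obj.obj (op T)) (x y : X.obj (op T)), N p x → N p y → x = y := by
    intro T p x y hx hy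
    obtain ⟨φ, hφ⟩ := exists_homIncl B (x - y) (show x.1.1 - y.1.1 = 0 by rw [hx.1, hy.1, sub_self])
    have h0 : φ = 0 := by
      have e := ConcreteCategory.congr_hom (NatTrans.congr_app hr (op T)) φ
      change r.app _ ((homIncl B).app _ φ) = φ at e
      rw [hφ, map_sub, hx.2, hy.2, sub_self] at e
      exact e.symm
    rw [h0, map_zero] at hφ
    exact sub_eq_zero.1 hφ.symm
  have hres : ∀ {T T₁ : C} (f : T₁ ⟶ T) (p : P.obj.obj (op T)) (x : X.obj (op T)), N p x →
      N (P.obj.map f.op p) (X.map f.op x) := fun f p x hx =>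
    ⟨congrArg (P.obj.map f.op) hx.1,
      (ConcreteCategory.congr_hom (r.naturality f.op) x).trans
        ((congrArg ((HomSh.homSh J Q G).obj.map f.op).hom hx.2).trans (map_zero _))⟩
  have hex : ∀ {T : C} (p : P.obj.obj (op T)), ∃ R ∈ J T, ∀ ⦃T' : C⦄ (f : T' ⟶ T), R f →
      ∃ x : X.obj (op T'), N (P.obj.map f.op p) x := by
    intro T p
    haveI := splitPr_locallySurjective B hloc
    refine ⟨Presheaf.imageSieve (splitPr B) p, Presheaf.imageSieve_mem J (splitPr B) p, fun T' f hf => ?_⟩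
    obtain ⟨x, hx⟩ := hf
    refine ⟨x - (homIncl B).app _ (r.app _ x), ?_, ?_⟩
    · show x.1.1 - (0 : P.obj.obj (op T')) = _
      rw [sub_zero]; exact hx
    · have e := ConcreteCategory.congr_hom (NatTrans.congr_app hr (op T')) (r.app _ x)
      change r.app _ ((homIncl B).app _ (r.app _ x)) = _ at e
      rw [map_sub, e]
      exact sub_self _
  -- the value of a splitting at a section
  let val : ∀ {T : C}, X.obj (op T) → ∀ q : Q.obj.obj (op T), B.E.obj.obj (op T) := fun {T} x q =>
    (x.1.2 T (𝟙 T) q).1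
  have hval : ∀ {T T₁ : C} (f : T₁ ⟶ T) (x : X.obj (op T)) (q : Q.obj.obj (op T)),
      B.E.obj.map f.op (val x q) = val (X.map f.op x) (Q.obj.map f.op q) := by
    intro T T₁ f x q
    refine (congrArg Subtype.val (x.2.map T T₁ f (𝟙 T) q)).trans ?_
    show (x.1.2 T₁ (f ≫ 𝟙 T) _).1 = (x.1.2 T₁ (𝟙 T₁ ≫ f) _).1
    rw [Category.comp_id, Category.id_comp]
  have hglue : ∀ (T : C) (p : P.obj.obj (op T)) (q : Q.obj.obj (op T)), ∃ z : B.E.obj.obj (op T),
      ∀ ⦃T' : C⦄ (f : T' ⟶ T) (x : X.obj (op T')), N (P.obj.map f.op p) x →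
        B.E.obj.map f.op z = val x (Q.obj.map f.op q) := by
    intro T p q
    obtain ⟨R, hR, h⟩ := hex p
    obtain ⟨z, hz⟩ := glue B.E hR
      (fun T' f _ z => ∃ x : X.obj (op T'), N (P.obj.map f.op p) x ∧ z = val x (Q.obj.map f.op q))
      (fun T' T'' f _ g z ⟨x, hx, e⟩ => ⟨X.map g.op x, by rw [← map_map_ab]; exact hres g _ x hx, by
        rw [e, hval, map_map_ab]⟩)
      (fun T' f _ z z' ⟨x, hx, e⟩ ⟨y, hy, e'⟩ => by rw [e, e', huniq _ x y hx hy])
      (fun T' f hf => (h f hf).elim fun x hx => ⟨_, x, hx, rfl⟩)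
    refine ⟨z, fun T' f x hx => sep_type B.E (J.pullback_stable f hR) fun T'' g hg => ?_⟩
    obtain ⟨y, hy, e⟩ := hz (g ≫ f) hg
    rw [map_map_type, e, hval, map_map_ab,
      huniq _ (X.map g.op x) y (by rw [← map_map_ab]; exact hres g _ x hx) hy]
  choose σ hσ using hglue
  refine ⟨{ σ := σ, πP_σ := ?_, πQ_σ := ?_, σ_map := ?_, σ_add₁ := ?_, σ_add₂ := ?_ }⟩
  · intro T p q
    obtain ⟨R, hR, h⟩ := hex p
    refine sep_ab P hR fun T' f hf => ?_
    obtain ⟨x, hx⟩ := h f hf
    rw [← B.πP_map, hσ T p q f x hx]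
    refine (x.2.πP T' (𝟙 T') _).trans ?_
    rw [map_id_ab, hx.1]
  · intro T p q
    obtain ⟨R, hR, h⟩ := hex p
    refine sep_ab Q hR fun T' f hf => ?_
    obtain ⟨x, hx⟩ := h f hf
    rw [← B.πQ_map, hσ T p q f x hx]
    exact (x.1.2 T' (𝟙 T') _).2
  · intro T T₁ g p q
    obtain ⟨R, hR, h⟩ := hex (P.obj.map g.op p)
    refine sep_type B.E hR fun T' f hf => ?_
    obtain ⟨x, hx⟩ := h f hf
    rw [hσ T₁ _ _ f x hx, map_map_type, hσ T p q (f ≫ g) x (by rw [← map_map_ab]; exact hx), map_map_ab]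
  · intro T p p' q
    obtain ⟨R, hR, h⟩ := hex p
    obtain ⟨R', hR', h'⟩ := hex p'
    refine sep_type B.E (J.intersection_covering hR hR') fun T' f hf => ?_
    obtain ⟨x, hx⟩ := h f hf.1
    obtain ⟨y, hy⟩ := h' f hf.2
    have hxy : N (P.obj.map f.op (p + p')) (x + y) := ⟨by
      show x.1.1 + y.1.1 = _; rw [hx.1, hy.1, map_add], by rw [map_add, hx.2, hy.2, add_zero]⟩
    rw [B.add₁_map, hσ T _ q f _ hxy]
    exact add₁_congr B (hσ T p q f x hx).symm (hσ T p' q f y hy).symm
      ((x.1.2 T' (𝟙 T') _).2.trans (y.1.2 T' (𝟙 T') _).2.symm) _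
  · intro T p q q'
    obtain ⟨R, hR, h⟩ := hex p
    refine sep_type B.E hR fun T' f hf => ?_
    obtain ⟨x, hx⟩ := h f hf
    rw [B.add₂_map, hσ T p _ f x hx]
    have e := (x.2.πP T' (𝟙 T') (Q.obj.map f.op q)).trans (x.2.πP T' (𝟙 T') (Q.obj.map f.op q')).symm
    show (x.1.2 T' (𝟙 T') (Q.obj.map f.op (q + q'))).1 = _
    rw [map_add, x.2.add T' (𝟙 T') _ _ e]
    exact add₂_congr B (hσ T p q f x hx).symm (hσ T p q' f x hx).symm e _

end Groth.Agent.BiextExtLib
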