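import Groth.Agent.BiextExtLib.SplitSheaf
import Mathlib.CategoryTheory.Abelian.RightDerived
import Mathlib.CategoryTheory.Abelian.Injective.Resolution

/-!
# Triviality of biextensions from the vanishing of `Ext¹(P, Hom(Q, G))` and `Hom(P, Ext¹(Q, G))`
-/

set_option autoImplicit false
set_option backward.isDefEq.respectTransparency false

universe w u

open CategoryTheory Opposite Limits

noncomputable section

namespace Groth.Agent.BiextExtLib

variable {C : Type (u + 1)} [Category.{u} C] {J : GrothendieckTopology C} [HasSheafify J AddCommGrpCat.{u + 1}]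

theorem sect_exact (S : ShortComplex (Sheaf J AddCommGrpCat.{u + 1})) (hS : S.Exact) (hf : Mono S.f) (T : C)
    (x : S.X₂.obj.obj (op T)) (hx : S.g.hom.app (op T) x = 0) : ∃ y, S.f.hom.app (op T) y = x := by
  let F := sheafToPresheaf J AddCommGrpCat.{u + 1} ⋙ (evaluation Cᵒᵖ AddCommGrpCat.{u + 1}).obj (op T)
  haveI : F.PreservesZeroMorphisms := ⟨fun _ _ => rfl⟩
  have h : (S.map F).Exact := hS.map_of_mono_of_preservesKernel F hf inferInstance
  rw [ShortComplex.ab_exact_iff] at h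
  exact h x hx

theorem sect_injective {X Y : Sheaf J AddCommGrpCat.{u + 1}} (f : X ⟶ Y) [Mono f] (T : C) :
    Function.Injective (f.hom.app (op T)) := by
  haveI : Mono ((sheafToPresheaf J AddCommGrpCat.{u + 1} ⋙
    (evaluation Cᵒᵖ AddCommGrpCat.{u + 1}).obj (op T)).map f) := inferInstance
  exact (AddCommGrpCat.mono_iff_injective (f.hom.app (op T))).1 this

theorem exact_locally [J.HasSheafCompose (forget AddCommGrpCat.{u + 1})]
    (S : ShortComplex (Sheaf J AddCommGrpCat.{u + 1})) (hS : S.Exact) (T : C)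
    (x : S.X₂.obj.obj (op T)) (hx : S.g.hom.app (op T) x = 0) :
    ∃ R ∈ J T, ∀ ⦃T' : C⦄ (f : T' ⟶ T), R f → ∃ y, S.f.hom.app (op T') y = S.X₂.obj.map f.op x := by
  haveI : Sheaf.IsLocallySurjective (kernel.lift S.g S.f S.zero) :=
    (Sheaf.isLocallySurjective_iff_epi' AddCommGrpCat.{u + 1} (kernel.lift S.g S.f S.zero)).2 (S.exact_iff_epi_kernel_lift.1 hS)
  obtain ⟨k, hk⟩ := sect_exact (ShortComplex.mk (kernel.ι S.g) S.g (kernel.condition _))
    (ShortComplex.exact_of_f_is_kernel _ (kernelIsKernel S.g)) inferInstance T x hx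
  refine ⟨_, Presheaf.imageSieve_mem J (kernel.lift S.g S.f S.zero).hom k, fun T' f hf => ?_⟩
  obtain ⟨y, hy⟩ := hf
  refine ⟨y, ?_⟩
  rw [← hk]
  refine Eq.trans ?_ (ConcreteCategory.congr_hom ((kernel.ι S.g).hom.naturality f.op) k)
  refine Eq.trans ?_ (congrArg ((kernel.ι S.g).hom.app (op T')) hy)
  exact (ConcreteCategory.congr_hom (NatTrans.congr_app
    (congrArg (fun t => t.hom) (kernel.lift_ι S.g S.f S.zero)) (op T')) y).symm

variable [HasInjectiveResolutions (Sheaf J AddCommGrpCat.{u + 1})] [J.HasSheafCompose (forget AddCommGrpCat.{u + 1})]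
  (Q G : Sheaf J AddCommGrpCat.{u + 1})

variable {G} (R : InjectiveResolution G)

/-- The internal Hom out of `Q` into a resolution. -/
def homCx : CochainComplex (Sheaf J AddCommGrpCat.{u + 1}) ℕ :=
  ((HomSh.homShFunctor J Q).mapHomologicalComplex (ComplexShape.up ℕ)).obj R.cocomplex

theorem homCx_d (i j : ℕ) : (homCx Q R).d i j = HomSh.homShMap J (𝟙 Q) (R.cocomplex.d i j) := rfl

/-- The first Ext sheaf as cohomology of the complex. -/
def extIso : (HomSh.extSh J Q 1).obj G ≅ (homCx Q R).homology 1 :=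
  eqToIso (by rw [HomSh.extSh_def]) ≪≫ R.isoRightDerivedObj (HomSh.homShFunctor J Q) 1

theorem exists_cycle (T : C) (ψ : Q.over T ⟶ (R.cocomplex.X 1).over T)
    (hψ : ∀ ⦃T' : C⦄ (h : T' ⟶ T) (q : Q.obj.obj (op T')), ∃ S ∈ J T', ∀ ⦃T'' : C⦄ (g : T'' ⟶ T'), S g →
      ∃ m, (R.cocomplex.d 0 1).hom.app (op T'') m = (R.cocomplex.X 1).obj.map g.op (appH ψ h q)) :
    ∃ z, ((homCx Q R).iCycles 1).hom.app (op T) z = ψ := by
  refine sect_exact (ShortComplex.mk ((homCx Q R).iCycles 1) ((homCx Q R).d 1 2) ((homCx Q R).iCycles_d 1 2))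
    (ShortComplex.exact_of_f_is_kernel _ ((homCx Q R).cyclesIsKernel 1 2 (by simp))) inferInstance T ψ ?_
  refine appH_ext (Q := Q) (M := R.cocomplex.X 2) fun T' h q => ?_
  show appH ((HomSh.homShMap J (𝟙 Q) (R.cocomplex.d 1 2)).hom.app (op T) ψ) h q = _
  rw [appH_homShMap, appH_zero]
  obtain ⟨S, hS, hS'⟩ := hψ h q
  refine sep_ab _ hS fun T'' g hg => ?_
  obtain ⟨m, hm⟩ := hS' g hg
  rw [map_zero]
  refine (ConcreteCategory.congr_hom ((R.cocomplex.d 1 2).hom.naturality g.op) _).symm.trans ?_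
  show (R.cocomplex.d 1 2).hom.app (op T'') ((R.cocomplex.X 1).obj.map g.op (appH ψ h q)) = 0
  rw [← hm]
  exact ConcreteCategory.congr_hom
    (NatTrans.congr_app (congrArg (fun t => t.hom) (R.cocomplex.d_comp_d 0 1 2)) (op T'')) m

theorem exact_cycle (T : C) (z : ((homCx Q R).cycles 1).obj.obj (op T))
    (hz : ((homCx Q R).homologyπ 1).hom.app (op T) z = 0) :
    ∃ S ∈ J T, ∀ ⦃T' : C⦄ (f : T' ⟶ T), S f →
      ∃ v, ((homCx Q R).toCycles 0 1).hom.app (op T') v = ((homCx Q R).cycles 1).obj.map f.op z :=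
  exact_locally (ShortComplex.mk ((homCx Q R).toCycles 0 1) ((homCx Q R).homologyπ 1)
      ((homCx Q R).toCycles_comp_homologyπ 0 1))
    (ShortComplex.exact_of_g_is_cokernel _ ((homCx Q R).homologyIsCokernel 0 1 (by simp))) T z hz

/-- The obstruction data attached to an injective resolution. -/
def obstruction : Obstruction Q G ((HomSh.extSh J Q 1).obj G) where
  I0 := R.cocomplex.X 0
  I1 := R.cocomplex.X 1
  inj := R.injective 0
  ι := R.ι.f 0
  d0 := R.cocomplex.d 0 1
  ι_injective T := sect_injective (R.ι.f 0) T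
  d0_ι T g := ConcreteCategory.congr_hom
    (NatTrans.congr_app (congrArg (fun t => t.hom) R.ι_f_zero_comp_complex_d) (op T)) g
  exists_of_d0 T m hm := sect_exact _ R.exact₀ (inferInstanceAs (Mono (R.ι.f 0))) T m hm
  Z := (homCx Q R).cycles 1
  iZ := (homCx Q R).iCycles 1
  toZ := (homCx Q R).toCycles 0 1
  toZ_iZ := ((homCx Q R).toCycles_i 0 1).trans (homCx_d Q R 0 1)
  π := (homCx Q R).homologyπ 1 ≫ (extIso Q R).inv
  toZ_π := ((Category.assoc _ _ _).symm.trans
    (congrArg (· ≫ (extIso Q R).inv) ((homCx Q R).toCycles_comp_homologyπ 0 1))).trans zero_comp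
  iZ_injective T := sect_injective ((homCx Q R).iCycles 1) T
  exists_lift := exists_cycle Q R
  exact T z hz := exact_cycle Q R T z (sect_injective (extIso Q R).inv T (hz.trans (map_zero _).symm))

theorem isTrivial [HasExt.{w} (Sheaf J AddCommGrpCat.{u + 1})] {P : Sheaf J AddCommGrpCat.{u + 1}}
    (h₁ : ∀ e : Abelian.Ext P (HomSh.homSh J Q G) 1, e = 0)
    (h₂ : ∀ φ : P ⟶ (HomSh.extSh J Q 1).obj G, φ = 0) (B : Biext J P Q G) : Biext.IsTrivial J B :=
  isTrivial_of_local_split B h₁ fun _ p => exists_split_locally (obstruction Q (injectiveResolution G)) h₂ p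

end Groth.Agent.BiextExtLib
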